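import Cfsg.Agent.WrP.G

/-! Maximality of the wreath product in product action. -/

set_option autoImplicit false

namespace CF.WrP

open Equiv Equiv.Perm MulAction Function

variable {ι Δ : Type} [DecidableEq ι] [Fintype ι] [Fintype Δ] [DecidableEq Δ]

theorem sign_wr_swap {i j : ι} (h : i ≠ j) (h4 : 4 ∣ Fintype.card Δ ^ (Fintype.card ι - 1)) :
    sign (wr (swap i j) (1 : ι → Perm Δ)) = 1 := by
  have h1 : wr (swap i j) (1 : ι → Perm Δ) ^ 2 = 1 := by
    ext f l
    simp [pow_two]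
  have h2 : Fintype.card (fixedPoints (wr (swap i j) (1 : ι → Perm Δ))) =
      Fintype.card Δ ^ (Fintype.card ι - 1) := by
    rw [← card_ne i, ← Fintype.card_fun]
    refine Fintype.card_of_bijective (f := fun f l => f.1 l.1) ⟨fun f f' e => ?_, fun f => ?_⟩
    · ext l
      by_cases hl : l = i
      · have a1 : f.1 j = f.1 i := by simpa using congrFun f.2 i
        have a2 : f'.1 j = f'.1 i := by simpa using congrFun f'.2 i
        rw [hl, ← a1, ← a2]
        exact congrFun e ⟨j, h.symm⟩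
      · exact congrFun e ⟨l, hl⟩
    · refine ⟨⟨fun l => if hl : l = i then f ⟨j, h.symm⟩ else f ⟨l, hl⟩, funext fun l => ?_⟩,
        funext fun l => dif_neg l.2⟩
      simp only [wr_apply, symm_swap, Pi.one_apply, Perm.one_apply, swap_apply_def]
      by_cases a1 : l = i
      · simp [a1, h.symm]
      · by_cases a2 : l = j
        · simp [a2, h.symm]
        · simp [a1, a2]
  rw [sign_of_pow_two_eq_one h1, h2, card_fun' i]
  obtain ⟨c, hc⟩ := h4
  rw [hc]
  refine Even.neg_one_pow ⟨Fintype.card Δ * c - c, ?_⟩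
  rw [show Fintype.card Δ * (4 * c) = 4 * (Fintype.card Δ * c) by ring]
  omega

theorem Wr_le_alt (hk : 2 ≤ Fintype.card ι) (he : Even (Fintype.card Δ))
    (h : ¬ (Fintype.card ι = 2 ∧ Fintype.card Δ % 4 = 2)) : Wr ι Δ ≤ alternatingGroup (ι → Δ) := by
  have h4 : 4 ∣ Fintype.card Δ ^ (Fintype.card ι - 1) := by
    obtain ⟨c, hc⟩ := he
    by_cases e : Fintype.card ι = 2
    · rw [e, pow_one]; omega
    · rw [show Fintype.card ι - 1 = 2 + (Fintype.card ι - 3) by omega, pow_add, hc]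
      exact Dvd.dvd.mul_right ⟨c * c, by ring⟩ _
  intro σ hσ
  obtain ⟨π, τ, rfl⟩ := exists_wr hσ
  refine mul_mem (show dg τ ∈ _ from dg_mem fun i => ?_) (show wr π 1 ∈ _ from ?_)
  · obtain ⟨c, hc⟩ := h4
    rw [mem_alternatingGroup, sign_co, hc, show 4 * c = 2 * (2 * c) by ring, pow_mul,
      Int.units_sq, one_pow]
  · induction π using swap_induction_on with
    | one => exact one_mem _
    | swap_mul π i j hij ih =>
      exact mul_mem (mem_alternatingGroup.2 (sign_wr_swap hij h4)) (ih (wr_mem _ _))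

theorem Hyp.of_odd (h5 : 5 ≤ Fintype.card Δ) (ho : Odd (Fintype.card Δ))
    {G : Subgroup (Perm (ι → Δ))} (h : Wr ι Δ ⊓ alternatingGroup (ι → Δ) ≤ G) : Hyp G := by
  refine ⟨h5, fun i s hs => h ⟨co_mem i s, mem_alternatingGroup.2 ?_⟩, fun y hy => ?_, fun e => ?_⟩
  · rw [sign_co, hs, one_pow]
  · rcases Int.units_eq_one_or (sign y) with e | e
    · exact Or.inl (h ⟨hy, e⟩)
    · refine Or.inr fun j a b hab => h ⟨mul_mem (co_mem _ _) hy, mem_alternatingGroup.2 ?_⟩
      rw [map_mul, sign_co, sign_swap hab, e, ho.pow.neg_one_pow]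
      simp
  · rw [e] at ho
    exact absurd ho (by decide)

theorem over' {G : Subgroup (Perm (ι → Δ))} (hk : 2 ≤ Fintype.card ι) (H : Hyp G) :
    G ≤ Wr ι Δ ∨ alternatingGroup (ι → Δ) ≤ G :=
  overgroup (Fintype.card ι - 1) ι (by omega) G H

theorem not_alt_le (hk : 2 ≤ Fintype.card ι) (h5 : 5 ≤ Fintype.card Δ) :
    ¬ alternatingGroup (ι → Δ) ≤ Wr ι Δ := fun h => by
  obtain ⟨i, j, hij⟩ := Fintype.exists_pair_of_one_lt_card (α := ι) (by omega)
  obtain ⟨a, b, hab⟩ := Fintype.exists_pair_of_one_lt_card (α := Δ) (by omega)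
  have hn := card_fun' (Δ := Δ) i
  have hp : 0 < Fintype.card Δ ^ (Fintype.card ι - 1) := by positivity
  obtain ⟨s, s1, s2, s3⟩ := exists_even {update (fun _ : ι => a) i b}
    (by rw [Finset.card_singleton]; nlinarith) (e := fun _ => a) (f := update (fun _ => a) j b)
    (by simpa [eq_comm] using hab.symm)
    (fun e => hab (by simpa [hij] using congrFun (Finset.mem_singleton.1 e) i))
  have := (show Ad (update (fun _ : ι => a) i b) fun _ => a from ⟨i, a, by simp⟩).wr
    (h (mem_alternatingGroup.2 s1))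
  rw [s2 _ (by simp), s3] at this
  exact not_ad hij hab.symm hab.symm this

theorem coatom_alt (hk : 2 ≤ Fintype.card ι) (h5 : 5 ≤ Fintype.card Δ)
    (h : ¬ (Fintype.card ι = 2 ∧ Fintype.card Δ % 4 = 2)) :
    IsCoatom ((Wr ι Δ).subgroupOf (alternatingGroup (ι → Δ))) := by
  refine ⟨fun e => not_alt_le hk h5 (Subgroup.subgroupOf_eq_top.1 e), fun K hK => ?_⟩
  have h1 : Wr ι Δ ⊓ alternatingGroup (ι → Δ) ≤ K.map (Subgroup.subtype _) := fun x hx =>
    ⟨⟨x, hx.2⟩, hK.le hx.1, rfl⟩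
  have H : Hyp (K.map (Subgroup.subtype _)) := by
    rcases Nat.even_or_odd (Fintype.card Δ) with e | e
    · exact Hyp.of_le h5 fun x hx => h1 ⟨hx, Wr_le_alt hk e h hx⟩
    · exact Hyp.of_odd h5 e h1
  rcases over' hk H with h2 | h2
  · exact absurd (fun x hx => h2 ⟨x, hx, rfl⟩) hK.not_ge
  · refine eq_top_iff.2 fun x _ => ?_
    obtain ⟨y, hy, e⟩ := h2 x.2
    exact (Subtype.ext e : y = x) ▸ hy

theorem coatom_sym (hk : 2 ≤ Fintype.card ι) (h5 : 5 ≤ Fintype.card Δ) {σ : Perm (ι → Δ)}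
    (h1 : sign σ = -1) (h2 : σ ∈ Wr ι Δ) : IsCoatom (Wr ι Δ) := by
  refine ⟨fun e => not_alt_le hk h5 (e ▸ le_top), fun K hK => ?_⟩
  have h3 := (over' hk (Hyp.of_le h5 hK.le)).resolve_left hK.not_ge
  refine eq_top_iff.2 fun x _ => ?_
  rcases Int.units_eq_one_or (sign x) with e | e
  · exact h3 e
  · have : σ⁻¹ * x ∈ K := h3 (by rw [mem_alternatingGroup]; simp [h1, e])
    simpa using mul_mem (hK.le h2) this

end CF.WrP
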