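import Cfsg.Agent.Perm.Count
import Cfsg.Agent.S3681

/-! General permutation lemmas: normal closure in the alternating group, flats (complements of
Jordan sets), subgroups of small index. -/

set_option autoImplicit false

namespace CF.WrP

open Equiv Equiv.Perm MulAction

variable {Δ : Type*} [Fintype Δ] [DecidableEq Δ]

theorem exists_not_mem (A : Finset Δ) (h : A.card < Fintype.card Δ) : ∃ x, x ∉ A := by
  by_contra hc
  push Not at hc
  have : A = Finset.univ := Finset.eq_univ_iff_forall.2 hc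
  rw [this, Finset.card_univ] at h
  omega

theorem exists_even (A : Finset Δ) (h : A.card + 3 ≤ Fintype.card Δ) {e f : Δ} (he : e ∉ A)
    (hf : f ∉ A) : ∃ a : Perm Δ, sign a = 1 ∧ (∀ x ∈ A, a x = x) ∧ a e = f := by
  by_cases hef : e = f
  · exact ⟨1, by simp, fun _ _ => rfl, hef⟩
  obtain ⟨g, hg⟩ := exists_not_mem (insert e (insert f A)) (by
    have := Finset.card_insert_le e (insert f A)
    have := Finset.card_insert_le f A
    omega)
  simp only [Finset.mem_insert, not_or] at hg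
  obtain ⟨h1, h2, h3⟩ := hg
  refine ⟨swap e g * swap e f, ?_, fun x hx => ?_, ?_⟩
  · rw [map_mul, sign_swap (Ne.symm h1), sign_swap hef]; simp
  · have a1 : x ≠ e := fun h => he (h ▸ hx)
    have a2 : x ≠ f := fun h => hf (h ▸ hx)
    have a3 : x ≠ g := fun h => h3 (h ▸ hx)
    rw [mul_apply, swap_apply_of_ne_of_ne a1 a2, swap_apply_of_ne_of_ne a1 a3]
  · rw [mul_apply, swap_apply_left, swap_apply_of_ne_of_ne (Ne.symm hef) (Ne.symm h2)]

theorem eq_one_of_comm_alt (h : 4 ≤ Fintype.card Δ) {s : Perm Δ}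
    (hs : ∀ a : Perm Δ, sign a = 1 → s * a = a * s) : s = 1 := by
  ext x
  by_contra hx
  change s x ≠ x at hx
  obtain ⟨y, hy⟩ := exists_not_mem {x, s x} (by
    have := Finset.card_le_two (a := x) (b := s x); omega)
  simp only [Finset.mem_insert, Finset.mem_singleton, not_or] at hy
  obtain ⟨a, h1, h2, h3⟩ := exists_even {x} (by simp; omega) (e := s x) (f := y)
    (by simpa using hx) (by simpa using hy.1)
  have := congrArg (fun p : Perm Δ => p x) (hs a h1)
  simp only [mul_apply, h2 x (by simp), h3] at this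
  exact hy.2 this.symm

theorem alt_le (h : 5 ≤ Fintype.card Δ) (L : Subgroup (Perm Δ))
    (hn : ∀ a : Perm Δ, sign a = 1 → ∀ x ∈ L, a * x * a⁻¹ ∈ L) {x : Perm Δ} (hx : x ∈ L)
    (h1 : x ≠ 1) {a : Perm Δ} (ha : sign a = 1) : a ∈ L := by
  have hN : (L.subgroupOf (alternatingGroup Δ)).Normal :=
    ⟨fun n hn' g => hn g (mem_alternatingGroup.1 g.2) n hn'⟩
  rcases alternatingGroup.normal_subgroup_eq_bot_or_eq_top
    (N := L.subgroupOf (alternatingGroup Δ)) (by rwa [Nat.card_eq_fintype_card]) with h2 | h2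
  · exfalso
    apply h1
    refine eq_one_of_comm_alt (by omega) fun b hb => ?_
    have h3 : b * x * b⁻¹ * x⁻¹ ∈ L := L.mul_mem (hn b hb x hx) (L.inv_mem hx)
    have h4 : b * x * b⁻¹ * x⁻¹ ∈ alternatingGroup Δ := by
      rw [mem_alternatingGroup]; simp [hb]
    have h5 : (⟨_, h4⟩ : alternatingGroup Δ) ∈ L.subgroupOf (alternatingGroup Δ) := h3
    rw [h2, Subgroup.mem_bot, Subtype.ext_iff] at h5
    change b * x * b⁻¹ * x⁻¹ = 1 at h5
    rw [mul_inv_eq_one, mul_inv_eq_iff_eq_mul] at h5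
    exact h5.symm
  · have : (⟨a, mem_alternatingGroup.2 ha⟩ : alternatingGroup Δ) ∈
        L.subgroupOf (alternatingGroup Δ) := h2 ▸ Subgroup.mem_top _
    exact this

theorem exists_noncomm (h : 5 ≤ Fintype.card Δ) :
    ∃ a b : Perm Δ, sign a = 1 ∧ sign b = 1 ∧ a * b * a⁻¹ * b⁻¹ ≠ 1 := by
  obtain ⟨e, -⟩ := exists_not_mem (∅ : Finset Δ) (by simp; omega)
  obtain ⟨f, hf⟩ := exists_not_mem ({e} : Finset Δ) (by simp; omega)
  obtain ⟨a, h1, -, h3⟩ := exists_even (∅ : Finset Δ) (by simp; omega) (e := e) (f := f)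
    (by simp) (by simp)
  by_contra hc
  push Not at hc
  have : a = 1 := eq_one_of_comm_alt (by omega) fun b hb => by
    have := hc a b h1 hb
    rwa [mul_inv_eq_one, mul_inv_eq_iff_eq_mul] at this
  subst this
  exact hf (by simpa using h3.symm)

/-! ### Flats -/

section Flat

variable {Ω : Type*} [Fintype Ω] [DecidableEq Ω]

/-- The pointwise stabilizer of `X` is transitive on the complement. -/
def Fl (G : Subgroup (Perm Ω)) (X : Finset Ω) : Prop :=
  ∀ p ∉ X, ∀ q ∉ X, ∃ x ∈ G, (∀ z ∈ X, x z = z) ∧ x p = q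

theorem Fl.image {G : Subgroup (Perm Ω)} {X : Finset Ω} (h : Fl G X) {g : Perm Ω} (hg : g ∈ G) :
    Fl G (X.image g) := by
  intro p hp q hq
  obtain ⟨x, hx, h1, h2⟩ := h (g⁻¹ p) (fun h' => hp (Finset.mem_image.2 ⟨_, h', by simp⟩))
    (g⁻¹ q) (fun h' => hq (Finset.mem_image.2 ⟨_, h', by simp⟩))
  refine ⟨g * x * g⁻¹, G.mul_mem (G.mul_mem hg hx) (G.inv_mem hg), fun z hz => ?_, ?_⟩
  · obtain ⟨y, hy, rfl⟩ := Finset.mem_image.1 hz
    simp [h1 y hy]
  · rw [mul_apply, mul_apply, h2]; simp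

theorem Fl.inter {G : Subgroup (Perm Ω)} {X Y : Finset Ω} (h : Fl G X) (h' : Fl G Y) {o : Ω}
    (h1 : o ∉ X) (h2 : o ∉ Y) : Fl G (X ∩ Y) := by
  have key : ∀ p ∉ X ∩ Y, ∃ x ∈ G, (∀ z ∈ X ∩ Y, x z = z) ∧ x p = o := fun p hp => by
    by_cases hX : p ∈ X
    · obtain ⟨x, hx, a1, a2⟩ := h' p (fun hY => hp (Finset.mem_inter.2 ⟨hX, hY⟩)) o h2
      exact ⟨x, hx, fun z hz => a1 z (Finset.mem_inter.1 hz).2, a2⟩
    · obtain ⟨x, hx, a1, a2⟩ := h p hX o h1
      exact ⟨x, hx, fun z hz => a1 z (Finset.mem_inter.1 hz).1, a2⟩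
  intro p hp q hq
  obtain ⟨x, hx, a1, a2⟩ := key p hp
  obtain ⟨y, hy, b1, b2⟩ := key q hq
  refine ⟨y⁻¹ * x, G.mul_mem (G.inv_mem hy) hx, fun z hz => ?_, ?_⟩
  · rw [mul_apply, a1 z hz, inv_eq_iff_eq, b1 z hz]
  · rw [mul_apply, a2, inv_eq_iff_eq, b2]

theorem Fl.inter' {G : Subgroup (Perm Ω)} {X Y : Finset Ω} (h : Fl G X) (h' : Fl G Y)
    (hc : X.card + Y.card < Fintype.card Ω) : Fl G (X ∩ Y) := by
  obtain ⟨o, ho⟩ := exists_not_mem (X ∪ Y) (lt_of_le_of_lt (Finset.card_union_le X Y) hc)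
  rw [Finset.mem_union, not_or] at ho
  exact h.inter h' ho.1 ho.2

theorem exists_image_eq {G : Subgroup (Perm Ω)} {k : ℕ} (h : IsMultiplyPretransitive G Ω k)
    {S S' : Finset Ω} (hS : S.card = k) (hS' : S'.card = k) : ∃ g ∈ G, S.image g = S' := by
  have e1 : Fin k ≃ S := (Fintype.equivFinOfCardEq (by simpa using hS)).symm
  have e2 : Fin k ≃ S' := (Fintype.equivFinOfCardEq (by simpa using hS')).symm
  obtain ⟨g, hg⟩ := isMultiplyPretransitive_iff.1 h
    (e1.toEmbedding.trans (Function.Embedding.subtype _))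
    (e2.toEmbedding.trans (Function.Embedding.subtype _))
  refine ⟨g, g.2, Finset.eq_of_subset_of_card_le (fun z hz => ?_) ?_⟩
  · obtain ⟨y, hy, rfl⟩ := Finset.mem_image.1 hz
    have := congrArg (fun f : Fin k ↪ Ω => f (e1.symm ⟨y, hy⟩)) hg
    simp only [Function.Embedding.smul_apply, Function.Embedding.trans_apply,
      Equiv.coe_toEmbedding, Equiv.apply_symm_apply, Function.Embedding.subtype_apply] at this
    change (g : Perm Ω) y = _ at this
    rw [this]
    exact Subtype.prop _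
  · rw [Finset.card_image_of_injective _ (g : Perm Ω).injective]; omega

theorem trans_of_all_flat {G : Subgroup (Perm Ω)} {k : ℕ} (hk : k + 2 ≤ Fintype.card Ω)
    (h : ∀ S : Finset Ω, S.card = k → Fl G S) : IsMultiplyPretransitive G Ω (k + 1) :=
  CF.Perm.multTrans_of_forall_fixing hk fun s hs a b ha hb => by
    obtain ⟨x, hx, h1, h2⟩ := h s hs a ha b hb
    exact ⟨⟨x, hx⟩, h1, h2⟩

theorem Fl.all {G : Subgroup (Perm Ω)} {k : ℕ} (h : IsMultiplyPretransitive G Ω k)
    {S : Finset Ω} (hS : S.card = k) (hf : Fl G S) (S' : Finset Ω) (hS' : S'.card = k) :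
    Fl G S' := by
  obtain ⟨g, hg, rfl⟩ := exists_image_eq h hS hS'
  exact hf.image hg

theorem Fl.step {G : Subgroup (Perm Ω)} {k : ℕ} (h : IsMultiplyPretransitive G Ω k)
    {S : Finset Ω} (hS : S.card = k) (hf : Fl G S) (hk : k + 2 ≤ Fintype.card Ω) :
    IsMultiplyPretransitive G Ω (k + 1) :=
  trans_of_all_flat hk (hf.all h hS)

theorem Fl.exists_subset {G : Subgroup (Perm Ω)} {A Y : Finset Ω} (hA : Fl G A) (hY : Fl G Y)
    (h1 : A.card < Y.card) (h2 : 2 * Y.card < Fintype.card Ω) :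
    ∃ A' : Finset Ω, Fl G A' ∧ A'.card = A.card ∧ A' ⊆ Y := by
  classical
  obtain ⟨B, hB, hm⟩ := Finset.exists_max_image
    (Finset.univ.filter fun B : Finset Ω => Fl G B ∧ B.card = A.card) (fun B => (B ∩ Y).card)
    ⟨A, by simp [hA]⟩
  simp only [Finset.mem_filter, Finset.mem_univ, true_and] at hB hm
  refine ⟨B, hB.1, hB.2, fun a ha => ?_⟩
  by_contra haY
  obtain ⟨y, hy, hyB⟩ : ∃ y ∈ Y, y ∉ B := by
    by_contra hc
    push Not at hc
    have := Finset.card_le_card (show Y ⊆ B from hc)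
    omega
  obtain ⟨x, hx, a1, a2⟩ := hB.1.inter' hY (by omega) a (by simp [haY]) y (by simp [hyB])
  have h3 := hm (B.image x) ⟨hB.1.image hx, by
    rw [Finset.card_image_of_injective _ x.injective, hB.2]⟩
  have h4 : insert y (B ∩ Y) ⊆ B.image x ∩ Y := fun z hz => by
    rcases Finset.mem_insert.1 hz with rfl | hz
    · exact Finset.mem_inter.2 ⟨Finset.mem_image.2 ⟨a, ha, a2⟩, hy⟩
    · exact Finset.mem_inter.2 ⟨Finset.mem_image.2 ⟨z, (Finset.mem_inter.1 hz).1, a1 z hz⟩,
        (Finset.mem_inter.1 hz).2⟩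
  have h5 := Finset.card_le_card h4
  rw [Finset.card_insert_of_notMem (by simp [hyB])] at h5
  omega

/-- Two flats of comparable size give high transitivity. -/
theorem line_lemma {G : Subgroup (Perm Ω)} (h2 : IsMultiplyPretransitive G Ω 2) {A Y : Finset Ω}
    (hA : Fl G A) (hY : Fl G Y) (h1 : A.card < Y.card) (hn : 2 * Y.card < Fintype.card Ω) :
    ∀ t : ℕ, 1 ≤ t → t ≤ Y.card → t + Y.card ≤ 2 * A.card + 2 →
      IsMultiplyPretransitive G Ω (t + 1) := by
  classical
  obtain ⟨A, hA, hc, hAY⟩ := hA.exists_subset hY h1 hn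
  rw [← hc] at h1 ⊢
  intro t ht
  induction t, ht using Nat.le_induction with
  | base => exact fun _ _ => h2
  | succ t ht ih =>
    intro a1 a2
    have hk := ih (by omega) (by omega)
    refine trans_of_all_flat (by omega) fun S hS => ?_
    by_contra hSf
    have nf : ∀ S' : Finset Ω, S'.card = t + 1 → ¬ Fl G S' := fun S' h h' =>
      hSf (h'.all hk h S hS)
    obtain ⟨X, hX, hm⟩ := Finset.exists_min_image
      (Finset.univ.filter fun B : Finset Ω => Fl G B ∧ t + 1 ≤ B.card ∧ B.card ≤ Y.card)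
      Finset.card ⟨Y, by simp [hY]; omega⟩
    simp only [Finset.mem_filter, Finset.mem_univ, true_and] at hX hm
    have hXc : t + 1 < X.card := lt_of_le_of_ne hX.2.1 fun h => nf X h.symm hX.1
    have cl : ∀ J : Finset Ω, J.card = t + 1 →
        ∃ B : Finset Ω, Fl G B ∧ B.card = X.card ∧ J ⊆ B := fun J hJ => by
      obtain ⟨J', b1, b2⟩ := Finset.exists_subset_card_eq hX.2.1
      obtain ⟨g, hg, rfl⟩ := exists_image_eq hk b2 hJ
      exact ⟨X.image g, hX.1.image hg, Finset.card_image_of_injective _ g.injective,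
        Finset.image_subset_image b1⟩
    have sub : ∀ B Z J : Finset Ω, Fl G B → B.card = X.card → Fl G Z → Z.card ≤ Y.card →
        J ⊆ B → J ⊆ Z → J.card = t + 1 → B ⊆ Z := fun B Z J b1 b2 b3 b4 b5 b6 b7 => by
      have c1 := Finset.card_le_card (Finset.subset_inter b5 b6)
      have c2 := Finset.card_le_card (Finset.inter_subset_left (s₁ := B) (s₂ := Z))
      have := hm (B ∩ Z) ⟨b1.inter' b3 (by omega), by omega, by omega⟩
      have e := Finset.eq_of_subset_of_card_le (Finset.inter_subset_left (s₁ := B) (s₂ := Z))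
        (by omega)
      exact e ▸ Finset.inter_subset_right
    obtain ⟨y, hy, hyA⟩ : ∃ y ∈ Y, y ∉ A := by
      by_contra hc
      push Not at hc
      have := Finset.card_le_card (show Y ⊆ A from hc)
      omega
    obtain ⟨K, hKA, hK⟩ := Finset.exists_subset_card_eq (s := A) (n := t - 1) (by omega)
    have cJ : ∀ a z : Ω, a ∉ K → z ∉ K → a ≠ z → (insert a (insert z K)).card = t + 1 :=
      fun a z b1 b2 b3 => by
        rw [Finset.card_insert_of_notMem (by simp [b1, b3]), Finset.card_insert_of_notMem b2]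
        omega
    have hyK : y ∉ K := fun h => hyA (hKA h)
    have ex : ∀ a ∈ A \ K, ∃ z ∈ (Y \ A).erase y, ∃ B : Finset Ω, Fl G B ∧ B.card = X.card ∧
        insert y (insert z K) ⊆ B ∧ a ∈ B ∧ ∀ a' ∈ A \ K, a' ∈ B → a' = a := fun a ha => by
      rw [Finset.mem_sdiff] at ha
      have hay : a ≠ y := fun h => hyA (h ▸ ha.1)
      obtain ⟨B, b1, b2, b3⟩ := cl _ (cJ a y ha.2 hyK hay)
      have b4 : B ⊆ Y := sub B Y _ b1 b2 hY le_rfl b3 (by
        intro z hz
        simp only [Finset.mem_insert] at hz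
        rcases hz with rfl | rfl | hz
        exacts [hAY ha.1, hy, hAY (hKA hz)]) (cJ a y ha.2 hyK hay)
      have b5 : ∀ a' ∈ A, a' ∉ K → a' ∈ B → a' = a := fun a' c1 c2 c3 => by
        by_contra c4
        refine hyA (sub B A _ b1 b2 hA h1.le ?_ ?_ (cJ a' a c2 ha.2 c4) (b3 (by simp)))
        · intro z hz
          simp only [Finset.mem_insert] at hz
          rcases hz with rfl | rfl | hz
          exacts [c3, b3 (by simp), b3 (by simp [hz])]
        · intro z hz
          simp only [Finset.mem_insert] at hz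
          rcases hz with rfl | rfl | hz
          exacts [c1, ha.1, hKA hz]
      obtain ⟨z, hz, hzJ⟩ : ∃ z ∈ B, z ∉ insert a (insert y K) := by
        by_contra hc
        push Not at hc
        have := Finset.card_le_card (show B ⊆ _ from hc)
        rw [cJ a y ha.2 hyK hay] at this
        omega
      simp only [Finset.mem_insert, not_or] at hzJ
      refine ⟨z, ?_, B, b1, b2, ?_, b3 (by simp), fun a' c => ?_⟩
      · simp only [Finset.mem_erase, Finset.mem_sdiff]
        exact ⟨hzJ.2.1, b4 hz, fun c => hzJ.1 (b5 z c hzJ.2.2 hz)⟩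
      · intro x hx
        simp only [Finset.mem_insert] at hx
        rcases hx with rfl | rfl | hx
        exacts [b3 (by simp), hz, b3 (by simp [hx])]
      · rw [Finset.mem_sdiff] at c
        exact b5 a' c.1 c.2
    choose! φ hφ B hB using ex
    have := Finset.card_le_card_of_injOn φ (s := A \ K) (t := (Y \ A).erase y) hφ
      fun a ha a' ha' e => by
        have c1 := hφ a ha
        simp only [Finset.mem_erase, Finset.mem_sdiff] at c1
        have c2 := sub (B a') (B a) _ (hB a' ha').1 (hB a' ha').2.1 (hB a ha).1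
          ((hB a ha).2.1 ▸ hX.2.2) (hB a' ha').2.2.1 (e ▸ (hB a ha).2.2.1)
          (cJ y (φ a') hyK (e ▸ fun h => c1.2.2 (hKA h)) (e ▸ Ne.symm c1.1))
        exact ((hB a ha).2.2.2.2 a' ha' (c2 (hB a' ha').2.2.2.1)).symm
    rw [Finset.card_erase_of_mem (by simp [hy, hyA]), Finset.card_sdiff_of_subset hKA,
      Finset.card_sdiff_of_subset hAY] at this
    omega

end Flat

/-! ### Subgroups of small index -/

theorem choose_two_le {n r : ℕ} (h1 : 2 ≤ r) (h2 : r + 2 ≤ n) : n.choose 2 ≤ n.choose r := by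
  have key : ∀ s : ℕ, 2 ≤ s → s ≤ n / 2 → n.choose 2 ≤ n.choose s := fun s hs => by
    induction s, hs using Nat.le_induction with
    | base => exact fun _ => le_rfl
    | succ s hs ih =>
      exact fun h => (ih (by omega)).trans (Nat.choose_le_succ_of_lt_half_left (by omega))
  by_cases h : r ≤ n / 2
  · exact key r h1 h
  · rw [← Nat.choose_symm (n := n) (k := r) (by omega)]
    exact key _ (by omega) (by omega)

theorem choose_le_fact {N : ℕ} (h : 9 ≤ N) : (N - 1).choose 2 ≤ ((N + 1) / 2).factorial := by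
  obtain ⟨s, hs⟩ : ∃ s, (N + 1) / 2 = s + 3 := ⟨(N + 1) / 2 - 3, by omega⟩
  rw [hs, Nat.factorial_succ, Nat.factorial_succ, Nat.factorial_succ, Nat.choose_two_right]
  have h1 := Nat.factorial_pos s
  have h2 : N - 1 ≤ 2 * s + 5 := by omega
  have h3 : N - 1 - 1 ≤ 2 * s + 4 := by omega
  have h4 := Nat.mul_le_mul h2 h3
  have h5 : 2 ≤ s := by omega
  apply Nat.div_le_of_le_mul
  have h6 : (s + 2 + 1) * ((s + 1 + 1) * ((s + 1) * 1)) ≤
      (s + 2 + 1) * ((s + 1 + 1) * ((s + 1) * s.factorial)) := by gcongr; exact h1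
  have h7 : 2 * s + 5 ≤ (s + 3) * (s + 1) := by nlinarith
  have h8 := Nat.mul_le_mul_right (2 * s + 4) h7
  have h9 : (s + 3) * (s + 1) * (2 * s + 4) = 2 * ((s + 2 + 1) * ((s + 1 + 1) * ((s + 1) * 1))) := by
    ring
  omega

theorem small_index {T : Type*} [Fintype T] [DecidableEq T] (Y : Subgroup (Perm T)) (t : T)
    (h9 : 9 ≤ Fintype.card T) (hi : Y.index < (Fintype.card T - 1).choose 2)
    (hs : ∀ u, u ≠ t → ∃ y ∈ Y, y t = t ∧ y u ≠ u) :
    (∀ y ∈ Y, y t = t) ∨ alternatingGroup T ≤ Y := by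
  classical
  have inv : ∀ S : Finset T, t ∉ S → (∀ y ∈ Y, y t = t → ∀ u ∈ S, y u ∈ S) → S.Nonempty →
      2 ≤ S.card := fun S h1 h2 ⟨u, hu⟩ => by
    obtain ⟨y, hy, a1, a2⟩ := hs u fun h => h1 (h ▸ hu)
    exact Finset.one_lt_card.2 ⟨_, h2 y hy a1 u hu, u, hu, a2⟩
  have tr : ∀ u v, u ≠ t → v ≠ t → ∃ y ∈ Y, y t = t ∧ y u = v := fun u v hu hv => by
    by_contra hc
    set S : Finset T := Finset.univ.filter fun w => ∃ y ∈ Y, y t = t ∧ y u = w with hS
    have mS : ∀ w, w ∈ S ↔ ∃ y ∈ Y, y t = t ∧ y u = w := fun w => by simp [hS]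
    have tS : t ∉ S := fun h => by
      obtain ⟨y, -, a1, a2⟩ := (mS t).1 h
      exact hu (y.injective (a2.trans a1.symm))
    have iS : ∀ y ∈ Y, y t = t → ∀ w, (y w ∈ S ↔ w ∈ S) := fun y hy a1 w => by
      simp only [mS]
      constructor
      · rintro ⟨z, hz, b1, b2⟩
        refine ⟨y⁻¹ * z, Y.mul_mem (Y.inv_mem hy) hz, ?_, ?_⟩
        · rw [mul_apply, b1, inv_eq_iff_eq, a1]
        · rw [mul_apply, b2, inv_eq_iff_eq]
      · rintro ⟨z, hz, b1, rfl⟩
        exact ⟨y * z, Y.mul_mem hy hz, by rw [mul_apply, b1, a1], rfl⟩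
    have c1 := inv S tS (fun y hy a1 w hw => (iS y hy a1 w).2 hw)
      ⟨u, (mS u).2 ⟨1, Y.one_mem, rfl, rfl⟩⟩
    have c2 := inv (insert t S)ᶜ (by simp) (fun y hy a1 w hw => by
      simp only [Finset.mem_compl, Finset.mem_insert, not_or] at hw ⊢
      exact ⟨fun h => hw.1 (y.injective (h.trans a1.symm)), fun h => hw.2 ((iS y hy a1 w).1 h)⟩)
      ⟨v, by simp only [Finset.mem_compl, Finset.mem_insert, not_or, mS]; exact ⟨hv, hc⟩⟩
    rw [Finset.card_compl, Finset.card_insert_of_notMem tS] at c2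
    have ex : ∀ S' : (Finset.univ.erase t).powersetCard S.card, ∃ g : Perm T,
        g t = t ∧ S.image g = S' := fun S' => by
      obtain ⟨S', h⟩ := S'
      rw [Finset.mem_powersetCard] at h
      have h1 : t ∉ S' := fun h' => by simpa using h.1 h'
      obtain ⟨g, -, hg⟩ := exists_image_eq (G := ⊤) (k := S.card + 1)
        (isMultiplyPretransitive_iff.2 fun x y => by
          obtain ⟨g, hg⟩ := isMultiplyPretransitive_iff.1
            (Equiv.Perm.isMultiplyPretransitive T (S.card + 1)) x y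
          exact ⟨⟨g, trivial⟩, hg⟩)
        (Finset.card_insert_of_notMem tS) (by rw [Finset.card_insert_of_notMem h1, h.2])
      have h2 : t ∈ (insert t S).image g := hg ▸ Finset.mem_insert_self _ _
      obtain ⟨a, ha, h3⟩ := Finset.mem_image.1 h2
      refine ⟨g * swap t a, by simp [h3], Finset.eq_of_subset_of_card_le (fun z hz => ?_) ?_⟩
      · obtain ⟨w, hw, rfl⟩ := Finset.mem_image.1 hz
        have h4 : (g * swap t a) w ∈ insert t S' := by
          rw [← hg]
          refine Finset.mem_image.2 ⟨swap t a w, ?_, rfl⟩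
          rw [swap_apply_def]
          split_ifs
          exacts [ha, Finset.mem_insert_self _ _, Finset.mem_insert_of_mem hw]
        refine (Finset.mem_insert.1 h4).resolve_left fun h5 => tS ?_
        have : (g * swap t a) w = (g * swap t a) t := by rw [h5]; simp [h3]
        exact (g * swap t a).injective this ▸ hw
      · rw [Finset.card_image_of_injective _ (g * swap t a).injective]
        exact h.2.le
    choose g g1 g2 using ex
    have := Nat.card_le_card_of_injective (fun S' => (g S' : Perm T ⧸ Y)) fun S1 S2 e => by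
      have e' := QuotientGroup.eq.1 e
      have e1 : ((g S1)⁻¹ * g S2) t = t := by rw [mul_apply, g1, inv_eq_iff_eq, g1]
      apply Subtype.ext
      rw [← g2, ← g2]
      refine (Finset.eq_of_subset_of_card_le (fun z hz => ?_) ?_).symm
      · obtain ⟨w, hw, rfl⟩ := Finset.mem_image.1 hz
        exact Finset.mem_image.2 ⟨_, (iS _ e' e1 w).2 hw, by simp⟩
      · rw [Finset.card_image_of_injective _ (g S1).injective,
          Finset.card_image_of_injective _ (g S2).injective]
    rw [Nat.card_eq_fintype_card, Fintype.card_coe, Finset.card_powersetCard,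
      Finset.card_erase_of_mem (Finset.mem_univ _), Finset.card_univ] at this
    have c3 := choose_two_le (n := Fintype.card T - 1) c1 (by omega)
    change _ ≤ Y.index at this
    omega
  by_cases h : ∀ y ∈ Y, y t = t
  · exact Or.inl h
  right
  push Not at h
  obtain ⟨y, hy, h⟩ := h
  have t1 : ∀ u, ∃ z ∈ Y, z t = u := fun u => by
    by_cases hu : u = t
    · exact ⟨1, Y.one_mem, hu.symm⟩
    obtain ⟨z, hz, -, a⟩ := tr _ u h hu
    exact ⟨z * y, Y.mul_mem hz hy, a⟩
  have t2 : IsMultiplyPretransitive Y T 2 := is_two_pretransitive_iff.2 fun {a b c d} h1 h2 => by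
    obtain ⟨x, hx, rfl⟩ := t1 a
    obtain ⟨z, hz, rfl⟩ := t1 c
    obtain ⟨w, hw, a1, a2⟩ := tr (x⁻¹ b) (z⁻¹ d) (fun e => h1 (by rw [← e]; simp))
      (fun e => h2 (by rw [← e]; simp))
    refine ⟨⟨z * w * x⁻¹, Y.mul_mem (Y.mul_mem hz hw) (Y.inv_mem hx)⟩, ?_, ?_⟩
    · change (z * w * x⁻¹) (x t) = z t
      simp [a1]
    · change (z * w * x⁻¹) b = d
      rw [mul_apply, mul_apply, a2]; simp
  by_contra hA
  have b := Cfsg.Agent.S3681.result (G := Y) (Ω := T) (isPreprimitive_of_is_two_pretransitive t2)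
    fun h' => hA fun x hx => by
      obtain ⟨z, rfl⟩ := h' hx
      exact z.2
  have c := Y.card_mul_index
  rw [Nat.card_perm, Nat.card_eq_fintype_card (α := T)] at c
  rw [← c] at b
  have d := Nat.le_of_mul_le_mul_left b Nat.card_pos
  have := choose_le_fact h9
  omega

end CF.WrP
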