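import Cfsg.Agent.WrP.A

/-! Bochert's bound for the minimal degree of a 4-transitive group. -/

set_option autoImplicit false

namespace CF.WrP

open Equiv Equiv.Perm MulAction

theorem avg_one {H X : Type*} [Group H] [Fintype H] [MulAction H X] [DecidableEq X] (x : X)
    (D R : Finset X) (hD : ∀ y ∈ D, ∃ h : H, h • x = y) :
    (Finset.univ.filter fun h : H => h • x ∈ R).card * D.card ≤ R.card * Fintype.card H := by
  classical
  set s := (Finset.univ.filter fun h : H => h • x = x).card with hs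
  have h1 : ∀ y : X, (∃ h : H, h • x = y) →
      (Finset.univ.filter fun h : H => h • x = y).card = s := by
    rintro _ ⟨g, rfl⟩
    refine (Finset.card_bij (fun h _ => g * h) ?_ ?_ ?_).symm
    · intro a ha
      simp only [Finset.mem_filter, Finset.mem_univ, true_and] at ha ⊢
      rw [mul_smul, ha]
    · intro a _ b _ e
      exact mul_left_cancel e
    · intro b hb
      simp only [Finset.mem_filter, Finset.mem_univ, true_and] at hb ⊢
      exact ⟨g⁻¹ * b, by rw [mul_smul, hb, inv_smul_smul], by simp⟩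
  have h2 : ∀ R : Finset X, (Finset.univ.filter fun h : H => h • x ∈ R).card =
      ∑ y ∈ R, (Finset.univ.filter fun h : H => h • x = y).card := fun R => by
    rw [Finset.card_eq_sum_card_fiberwise (f := fun h : H => h • x) (t := R)
      (fun h hh => by simpa using hh)]
    refine Finset.sum_congr rfl fun y hy => ?_
    congr 1
    ext h
    simp only [Finset.mem_filter, Finset.mem_univ, true_and]
    exact ⟨fun a => a.2, fun a => ⟨a ▸ hy, a⟩⟩
  have h3 : (Finset.univ.filter fun h : H => h • x ∈ R).card ≤ R.card * s := by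
    rw [h2]
    refine Finset.sum_le_card_nsmul _ _ _ fun y _ => ?_
    by_cases e : ∃ h : H, h • x = y
    · exact (h1 y e).le
    · rw [Finset.filter_eq_empty_iff.2 fun h _ a => e ⟨h, a⟩]; simp
  have h4 : D.card * s ≤ Fintype.card H := by
    have := Finset.card_le_univ (Finset.univ.filter fun h : H => h • x ∈ D)
    rwa [h2, Finset.sum_congr rfl fun y hy => h1 y (hD y hy), Finset.sum_const,
      smul_eq_mul] at this
  calc _ ≤ R.card * s * D.card := Nat.mul_le_mul_right _ h3
    _ = R.card * (D.card * s) := by ring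
    _ ≤ _ := Nat.mul_le_mul_left _ h4

theorem avg {H X I : Type*} [Group H] [Fintype H] [MulAction H X] [DecidableEq X] (S : Finset I)
    (x : I → X) (D R : Finset X) (hD : ∀ i ∈ S, ∀ y ∈ D, ∃ h : H, h • x i = y) :
    (∑ h : H, (S.filter fun i => h • x i ∈ R).card) * D.card ≤
      S.card * (R.card * Fintype.card H) := by
  have : ∑ h : H, (S.filter fun i => h • x i ∈ R).card =
      ∑ i ∈ S, (Finset.univ.filter fun h : H => h • x i ∈ R).card := by
    simp only [Finset.card_filter]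
    exact Finset.sum_comm
  rw [this, Finset.sum_mul]
  exact Finset.sum_le_card_nsmul _ _ _ fun i hi => avg_one _ D R (hD i hi)

variable {Ω : Type*} [Fintype Ω] [DecidableEq Ω]

omit [Fintype Ω] in
theorem four_trans {G : Subgroup (Perm Ω)} (h : IsMultiplyPretransitive G Ω 4) {a b c d c' d' : Ω}
    (h1 : [a, b, c, d].Nodup) (h2 : [a, b, c', d'].Nodup) :
    ∃ g ∈ G, g a = a ∧ g b = b ∧ g c = c' ∧ g d = d' := by
  have key : ∀ a b c d : Ω, [a, b, c, d].Nodup → Function.Injective ![a, b, c, d] :=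
    fun a b c d h => by
      rw [← List.nodup_ofFn]
      simpa using h
  obtain ⟨g, hg⟩ := isMultiplyPretransitive_iff.1 h ⟨_, key _ _ _ _ h1⟩ ⟨_, key _ _ _ _ h2⟩
  have := fun i => congrArg (fun f : Fin 4 ↪ Ω => f i) hg
  exact ⟨g, g.2, this 0, this 1, this 2, this 3⟩

theorem boch_ineq {n μ : ℕ} (h4 : 4 ≤ μ) (hn : (49 ≤ n ∧ 7 * μ ≤ 3 * n) ∨ (36 ≤ n ∧ 3 * μ ≤ n)) :
    (μ - 2) * (μ - 1) * ((n - 3) + (n - μ - 1) + (n - μ)) < (μ - 3) * ((n - 2) * (n - 3)) := by
  obtain ⟨a, rfl⟩ : ∃ a, μ = a + 4 := ⟨μ - 4, by omega⟩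
  obtain ⟨b, rfl⟩ : ∃ b, n = a + 4 + b + 1 := ⟨n - (a + 4) - 1, by omega⟩
  rw [show a + 4 - 2 = a + 2 by omega, show a + 4 - 1 = a + 3 by omega,
    show a + 4 - 3 = a + 1 by omega, show a + 4 + b + 1 - 3 = a + b + 2 by omega,
    show a + 4 + b + 1 - 2 = a + b + 3 by omega, show a + 4 + b + 1 - (a + 4) - 1 = b by omega,
    show a + 4 + b + 1 - (a + 4) = b + 1 by omega]
  have h2 : 23 ≤ b := by omega
  obtain ⟨c, rfl⟩ : ∃ c, b = a + 10 + c := ⟨b - (a + 10), by omega⟩
  have h3 : 13 * (a + c) ≤ (a + c) * (a + c) := Nat.mul_le_mul_right _ (by omega)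
  nlinarith [Nat.zero_le (a * a * c), Nat.zero_le (a * c * c), Nat.zero_le (a * c),
    Nat.zero_le (a * a)]

theorem boch_arith {a b c h μ p q r s x y : ℕ} (h3 : 4 ≤ μ) (hp : 0 < h)
    (S : h * μ ≤ h * 3 + a + b + c) (A : a * p ≤ y * (x * h)) (B : b * (p * q) ≤ x * (r * y * h))
    (C : c * (p * q) ≤ y * (s * x * h)) (I : x * y * (q + r + s) < (μ - 3) * (p * q)) : False := by
  obtain ⟨m, rfl⟩ : ∃ m, μ = m + 3 := ⟨μ - 3, by omega⟩
  rw [Nat.add_sub_cancel] at I
  have S' : h * m ≤ a + b + c := by rw [mul_add] at S; omega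
  have S2 := Nat.mul_le_mul_right (p * q) S'
  have I2 := Nat.mul_lt_mul_of_pos_left I hp
  have A2 := Nat.mul_le_mul_right q A
  nlinarith

theorem bochert4 {G : Subgroup (Perm Ω)} (h4 : IsMultiplyPretransitive G Ω 4)
    (no3 : ∀ x ∈ G, x.support.card ≤ 3 → x = 1) {x : Perm Ω} (hx : x ∈ G) (hx1 : x ≠ 1)
    (hn : (49 ≤ Fintype.card Ω ∧ 7 * x.support.card ≤ 3 * Fintype.card Ω) ∨
      (36 ≤ Fintype.card Ω ∧ 3 * x.support.card ≤ Fintype.card Ω)) : False := by
  classical
  obtain ⟨u, hu, hm⟩ := Finset.exists_min_image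
    (Finset.univ.filter fun y : Perm Ω => y ∈ G ∧ y ≠ 1) (fun y => y.support.card) ⟨x, by simp [*]⟩
  simp only [Finset.mem_filter, Finset.mem_univ, true_and] at hu hm
  have hμ := hm x ⟨hx, hx1⟩
  have h3 : 4 ≤ u.support.card := by
    by_contra h
    exact hu.2 (no3 u hu.1 (by omega))
  set n := Fintype.card Ω with hn'
  set U := u.support with hU
  obtain ⟨α, hα⟩ : U.Nonempty := Finset.card_pos.1 (by omega)
  set β := u α with hβ
  have hαβ : β ≠ α := mem_support.1 hα
  have hβU : β ∈ U := apply_mem_support.2 hα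
  obtain ⟨γ, hγ⟩ := exists_not_mem U (by omega)
  have h2 : IsMultiplyPretransitive G Ω 2 := isMultiplyPretransitive_of_le (n := 4) (by omega)
    (by rw [Nat.card_eq_fintype_card]; omega)
  have hγα : γ ≠ α := fun h => hγ (h ▸ hα)
  obtain ⟨⟨k, hk⟩, k1, k2⟩ := is_two_pretransitive_iff.1 h2 hγα hαβ.symm
  change k γ = α at k1
  change k α = β at k2
  set v := k * u * k⁻¹ with hv
  have vG : v ∈ G := G.mul_mem (G.mul_mem hk hu.1) (G.inv_mem hk)
  have vα : v α = α := by
    rw [hv, mul_apply, mul_apply, ← k1]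
    simp [notMem_support.1 hγ]
  have vβ : v β ≠ β := by
    rw [hv, mul_apply, mul_apply, ← k2]
    simpa using hαβ
  set V := v.support with hV
  have cV : V.card = U.card := card_support_conj
  have βV : β ∈ V := mem_support.2 vβ
  have αV : α ∉ V := notMem_support.2 vα
  set H : Subgroup (Perm Ω) := G ⊓ stabilizer (Perm Ω) α ⊓ stabilizer (Perm Ω) β with hH
  have mH : ∀ h : Perm Ω, h ∈ H ↔ h ∈ G ∧ h α = α ∧ h β = β := fun h => by
    simp [hH, and_assoc]
  set D : Finset Ω := (Finset.univ.erase α).erase β with hD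
  have mD : ∀ y, y ∈ D ↔ y ≠ β ∧ y ≠ α := fun y => by simp [hD]
  have cD : D.card = n - 2 := by
    rw [hD, Finset.card_erase_of_mem (by simp [hαβ]), Finset.card_erase_of_mem (by simp),
      Finset.card_univ]
    omega
  have t2 : ∀ p ∈ D.offDiag, ∀ q ∈ D.offDiag, ∃ h : H, h • p = q := fun p hp q hq => by
    simp only [Finset.mem_offDiag, mD] at hp hq
    obtain ⟨g, hg, a1, a2, a3, a4⟩ := four_trans h4 (a := α) (b := β) (c := p.1) (d := p.2)
      (c' := q.1) (d' := q.2) (by simp; grind) (by simp; grind)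
    exact ⟨⟨g, (mH g).2 ⟨hg, a1, a2⟩⟩, Prod.ext a3 a4⟩
  have t1 : ∀ p ∈ D, ∀ q ∈ D, ∃ h : H, h • p = q := fun p hp q hq => by
    obtain ⟨p', hp', e⟩ := Finset.exists_mem_ne (s := D) (by omega) p
    obtain ⟨q', hq', e'⟩ := Finset.exists_mem_ne (s := D) (by omega) q
    obtain ⟨h, hh⟩ := t2 (p, p') (Finset.mem_offDiag.2 ⟨hp, hp', e.symm⟩) (q, q')
      (Finset.mem_offDiag.2 ⟨hq, hq', e'.symm⟩)
    exact ⟨h, congrArg Prod.fst hh⟩
  set U' := (U.erase α).erase β with hU'
  have cU' : U'.card = U.card - 2 := by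
    rw [hU', Finset.card_erase_of_mem (by simp [hαβ, hβU]), Finset.card_erase_of_mem hα]
    omega
  have cV' : (V.erase β).card = U.card - 1 := by rw [Finset.card_erase_of_mem βV, cV]
  have VD : V.erase β ⊆ D := fun y hy => by
    rw [Finset.mem_erase] at hy
    exact (mD y).2 ⟨hy.1, fun h => αV (h ▸ hy.2)⟩
  have A := avg (H := H) (V.erase β) (fun y => y) D U' fun i hi => t1 i (VD hi)
  have B := avg (H := H) (U'.filter fun y => u y ≠ α) (fun y => (y, u y)) D.offDiag
    ((D \ V.erase β) ×ˢ V.erase β) fun i hi => t2 _ (by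
      simp only [Finset.mem_filter, hU', Finset.mem_erase, hU, mem_support] at hi
      simp only [Finset.mem_offDiag, mD]
      exact ⟨⟨hi.1.1, hi.1.2.1⟩, ⟨fun h => hi.1.2.1 (u.injective h), hi.2⟩, hi.1.2.2.symm⟩)
  have C := avg (H := H) ((V.erase β).filter fun y => v y ≠ β) (fun y => (y, v y)) D.offDiag
    (Uᶜ ×ˢ U') fun i hi => t2 _ (by
      simp only [Finset.mem_filter] at hi
      have a := (mD i).1 (VD hi.1)
      simp only [Finset.mem_offDiag, mD]
      exact ⟨a, ⟨hi.2, fun h => a.2 (v.injective (h.trans vα.symm))⟩,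
        (mem_support.1 (Finset.mem_erase.1 hi.1).2).symm⟩)
  rw [← Equiv.sum_comp (Equiv.inv H)] at B
  have key : ∀ h : H, U.card ≤ 3 + ((V.erase β).filter fun i => h • i ∈ U').card +
      ((U'.filter fun y => u y ≠ α).filter fun i =>
        (Equiv.inv H h) • (i, u i) ∈ (D \ V.erase β) ×ˢ V.erase β).card +
      (((V.erase β).filter fun y => v y ≠ β).filter fun i =>
        h • (i, v i) ∈ Uᶜ ×ˢ U').card := fun ⟨h, hh⟩ => by
    obtain ⟨hG, hα', hβ'⟩ := (mH h).1 hh
    have iα : h⁻¹ α = α := by rw [inv_eq_iff_eq, hα']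
    have iβ : h⁻¹ β = β := by rw [inv_eq_iff_eq, hβ']
    set w := h * v * h⁻¹ with hw
    have wa : ∀ y, w y = h (v (h⁻¹ y)) := fun y => rfl
    have wG : w ∈ G := G.mul_mem (G.mul_mem hG vG) (G.inv_mem hG)
    have mv : ∀ y, w y = y ↔ h⁻¹ y ∉ V := fun y => by
      rw [wa, hV, notMem_support, ← eq_inv_iff_eq]
    have e1 : (w * u)⁻¹ * (u * w) ≠ 1 := fun e => by
      have := congrArg (fun p : Perm Ω => p α) (inv_mul_eq_one.1 e)
      simp only [mul_apply, wa, iα, vα, hα', ← hβ, iβ] at this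
      exact vβ (h.injective (this.trans hβ'.symm))
    refine (hm _ ⟨G.mul_mem (G.inv_mem (G.mul_mem wG hu.1)) (G.mul_mem hu.1 wG), e1⟩).trans ?_
    set SA := (V.erase β).filter fun i => (⟨h, hh⟩ : H) • i ∈ U'
    set SB := (U'.filter fun y => u y ≠ α).filter fun i =>
        (Equiv.inv H ⟨h, hh⟩) • (i, u i) ∈ (D \ V.erase β) ×ˢ V.erase β
    set SC := ((V.erase β).filter fun y => v y ≠ β).filter fun i =>
        (⟨h, hh⟩ : H) • (i, v i) ∈ Uᶜ ×ˢ U'
    have sub : ((w * u)⁻¹ * (u * w)).support ⊆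
        (({α, β, w⁻¹ β} : Finset Ω) ∪ SA.image h ∪ SB) ∪ SC.image h := fun y hy => by
      rw [mem_support, mul_apply, Ne, inv_eq_iff_eq] at hy
      change ¬ u (w y) = w (u y) at hy
      by_cases a0 : y ∈ ({α, β, w⁻¹ β} : Finset Ω)
      · simp only [Finset.mem_union]; tauto
      simp only [Finset.mem_insert, Finset.mem_singleton, not_or] at a0
      obtain ⟨a1, a2, a3⟩ := a0
      have b1 : h⁻¹ y ≠ β := fun e => a2 (h⁻¹.injective (e.trans iβ.symm))
      have b2 : h⁻¹ y ≠ α := fun e => a1 (h⁻¹.injective (e.trans iα.symm))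
      simp only [Finset.mem_union]
      by_cases c1 : y ∈ U <;> by_cases c2 : w y = y
      · refine Or.inl (Or.inr ?_)
        have c3 : h⁻¹ (u y) ∈ V := by
          by_contra c3
          exact hy (by rw [(mv _).2 c3, c2])
        have c4 : u y ≠ α := fun e => αV (by rwa [e, iα] at c3)
        have c5 : h⁻¹ (u y) ≠ β := fun e =>
          a1 (u.injective (h⁻¹.injective (e.trans iβ.symm)))
        simp only [SB, Finset.mem_filter, Finset.mem_product, Finset.mem_sdiff, mD,
          Finset.mem_erase, hU']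
        exact ⟨⟨⟨a2, a1, c1⟩, c4⟩, ⟨⟨b1, b2⟩, fun e => (mv y).1 c2 e.2⟩, c5, c3⟩
      · refine Or.inl (Or.inl (Or.inr (Finset.mem_image.2 ⟨h⁻¹ y, ?_, by simp⟩)))
        simp only [SA, Finset.mem_filter, Finset.mem_erase, hU']
        have : (⟨h, hh⟩ : H) • h⁻¹ y = y := by change h (h⁻¹ y) = y; simp
        rw [this]
        exact ⟨⟨b1, not_not.1 fun e => c2 ((mv y).2 e)⟩, a2, a1, c1⟩
      · exact absurd (by rw [c2, notMem_support.1 c1, c2]) hy
      · refine Or.inr (Finset.mem_image.2 ⟨h⁻¹ y, ?_, by simp⟩)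
        have c3 : w y ∈ U := by
          by_contra c3
          exact hy (by rw [notMem_support.1 c3, notMem_support.1 c1])
        have c4 : w y ≠ β := fun e => a3 (by rw [← e]; simp)
        have c5 : w y ≠ α := fun e =>
          a1 (w.injective (e.trans ((mv α).2 (by rwa [iα])).symm))
        simp only [SC, Finset.mem_filter, Finset.mem_erase, hU', Finset.mem_product,
          Finset.mem_compl]
        refine ⟨⟨⟨b1, not_not.1 fun e => c2 ((mv y).2 e)⟩, fun e => c4 (by rw [wa, e, hβ'])⟩,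
          ?_, c4, c5, c3⟩
        change h (h⁻¹ y) ∉ U
        simpa using c1
    refine (Finset.card_le_card sub).trans ?_
    have d1 := Finset.card_union_le (({α, β, w⁻¹ β} : Finset Ω) ∪ SA.image h ∪ SB) (SC.image h)
    have d2 := Finset.card_union_le (({α, β, w⁻¹ β} : Finset Ω) ∪ SA.image h) SB
    have d3 := Finset.card_union_le ({α, β, w⁻¹ β} : Finset Ω) (SA.image h)
    have d4 := Finset.card_le_three (a := α) (b := β) (c := w⁻¹ β)
    have d5 := Finset.card_image_le (s := SA) (f := h)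
    have d6 := Finset.card_image_le (s := SC) (f := h)
    omega
  have S := Finset.sum_le_sum fun h (_ : h ∈ Finset.univ) => key h
  simp only [Finset.sum_add_distrib, Finset.sum_const, Finset.card_univ, smul_eq_mul] at S
  have cO : D.offDiag.card = (n - 2) * (n - 3) := by
    rw [Finset.offDiag_card, cD, show n - 3 = n - 2 - 1 by omega, Nat.mul_sub_one]
  rw [cO, Finset.card_product] at B C
  rw [Finset.card_sdiff_of_subset VD, cD, cV'] at B
  rw [Finset.card_compl, cU'] at C
  rw [cD, cU', cV'] at A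
  have B' := (Finset.card_filter_le U' fun y => u y ≠ α).trans cU'.le
  have C' := (Finset.card_filter_le (V.erase β) fun y => v y ≠ β).trans cV'.le
  have I := boch_ineq (n := n) h3 (by omega)
  have hp : 0 < Fintype.card H := Fintype.card_pos
  replace B := B.trans (Nat.mul_le_mul_right _ B')
  replace C := C.trans (Nat.mul_le_mul_right _ C')
  rw [show n - 2 - (U.card - 1) = n - U.card - 1 by omega] at B
  exact boch_arith h3 hp S A B C I

end CF.WrP
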