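import Cfsg.Agent.WrP.A

/-! Groups on `Δ × T` containing the diagonal alternating group of `Δ`: line-preserving elements. -/

set_option autoImplicit false

namespace CF.WrP

open Equiv Equiv.Perm MulAction

variable {Δ T : Type*}

/-- Product of two permutations. -/
def pc (s : Perm Δ) (w : Perm T) : Perm (Δ × T) := Equiv.prodCongr s w

@[simp] theorem pc_apply (s : Perm Δ) (w : Perm T) (p : Δ × T) : pc s w p = (s p.1, w p.2) := rfl

theorem pc_mul (s s' : Perm Δ) (w w' : Perm T) : pc s w * pc s' w' = pc (s * s') (w * w') := rfl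

theorem pc_inv (s : Perm Δ) (w : Perm T) : (pc s w)⁻¹ = pc s⁻¹ w⁻¹ := rfl

theorem pc_one : pc (1 : Perm Δ) (1 : Perm T) = 1 := rfl

theorem pc_pow (s : Perm Δ) (j : ℕ) : pc s (1 : Perm T) ^ j = pc (s ^ j) 1 := by
  induction j with
  | zero => rfl
  | succ j ih => rw [pow_succ, ih, pc_mul, ← pow_succ, mul_one]

/-- Line-preserving permutations. -/
def pl : (T → Perm Δ) →* Perm (Δ × T) where
  toFun σ := Equiv.prodCongrLeft σ
  map_one' := rfl
  map_mul' _ _ := rfl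

@[simp] theorem pl_apply (σ : T → Perm Δ) (p : Δ × T) : pl σ p = (σ p.2 p.1, p.2) := rfl

theorem pl_const (s : Perm Δ) : pl (fun _ : T => s) = pc s 1 := rfl

theorem exists_pl [Finite Δ] {x : Perm (Δ × T)} {w : Perm T} (h : ∀ p, (x p).2 = w p.2) :
    ∃ σ : T → Perm Δ, x = pl σ * pc 1 w := by
  have h1 : ∀ t, Function.Bijective fun a => (x (a, w⁻¹ t)).1 := fun t =>
    Finite.injective_iff_bijective.1 fun a b e =>
      congrArg Prod.fst (x.injective
        (Prod.ext e ((h (a, w⁻¹ t)).trans (h (b, w⁻¹ t)).symm)))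
  refine ⟨fun t => Equiv.ofBijective _ (h1 t), Equiv.ext fun p => Prod.ext ?_ (h p)⟩
  simp

variable [Fintype Δ] [DecidableEq Δ] [Fintype T] [DecidableEq T]

/-- Standing hypotheses for one coordinate of a product action. -/
structure Core (G : Subgroup (Perm (Δ × T))) (W : Subgroup (Perm T)) : Prop where
  m5 : 5 ≤ Fintype.card Δ
  n2 : 2 ≤ Fintype.card T
  h1 : ∀ s : Perm Δ, sign s = 1 → pc s 1 ∈ G
  h2 : ∀ w ∈ W, pc 1 w ∈ G ∨ ∀ a b : Δ, a ≠ b → pc (swap a b) w ∈ G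
  hT : ∀ (s : Perm Δ) (t u : T), ∃ w ∈ W, w t = u ∧ pc s w ∈ G
  prim : IsPreprimitive W T
  hs : ∀ t u : T, u ≠ t → ∃ w ∈ W, w t = t ∧ w u ≠ u ∧ 2 * w.support.card < Fintype.card T
  hs' : ∀ t u : T, u ≠ t → ∃ w ∈ W, w t = t ∧ w u ≠ u ∧ pc 1 w ∈ G ∧ sign w = 1
  no3 : ∀ x ∈ G, x.support.card ≤ 3 → x = 1
  hJ : ∀ A : Finset Δ, A.card = min 3 (Fintype.card Δ - 3) → ¬ Fl G (A ×ˢ Finset.univ)
  h5 : Fintype.card Δ = 5 → ¬ 3 ∣ Fintype.card T
  hI : ∀ Y : Subgroup (Perm T), W ≤ Y → Y ≤ W ∨ alternatingGroup T ≤ Y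
  hN : W = ⊤ ∨ Fintype.card Δ ^ 2 ≤ Fintype.card T

namespace Core

variable {G : Subgroup (Perm (Δ × T))} {W : Subgroup (Perm T)} (c : Core G W)
include c

theorem rel (R : T → T → Prop) (hr : ∀ a, R a a) (ht : ∀ a b c, R a b → R b c → R a c)
    (hi : ∀ w ∈ W, ∀ a b, R a b → R (w a) (w b)) : (∀ a b, R a b → a = b) ∨ ∀ a b, R a b :=
  haveI := c.prim
  CF.Perm.rel_trivial (G := W) R hr ht fun g => hi g g.2

theorem lift {a b : Δ} (h : a ≠ b) {w : Perm T} (hw : w ∈ W) :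
    ∃ s : Perm Δ, (s = 1 ∨ s = swap a b) ∧ pc s w ∈ G :=
  (c.h2 w hw).elim (fun e => ⟨1, Or.inl rfl, e⟩) fun e => ⟨_, Or.inr rfl, e a b h⟩

theorem diag {σ : T → Perm Δ} (h : pl σ ∈ G) (t u : T) : σ t = σ u := by
  have m5 := c.m5
  obtain ⟨a, b, hab⟩ := Fintype.exists_pair_of_one_lt_card (α := Δ) (by omega)
  have cj : ∀ τ : T → Perm Δ, pl τ ∈ G → ∀ e : Perm Δ, sign e = 1 →
      pl (fun v => e * τ v * e⁻¹) ∈ G := fun τ hτ e he =>
    G.mul_mem (G.mul_mem (c.h1 e he) hτ) (G.inv_mem (c.h1 e he))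
  rcases c.rel (fun t u => ∀ τ : T → Perm Δ, pl τ ∈ G → τ t = 1 → τ u = 1) (fun _ _ _ e => e)
    (fun _ _ _ h1 h2 τ hτ e => h2 τ hτ (h1 τ hτ e)) (fun w hw t u h1 τ hτ e => by
      obtain ⟨s, -, hs⟩ := c.lift hab hw
      have h2 : pl (fun v => s⁻¹ * τ (w v) * s) = (pc s w)⁻¹ * pl τ * pc s w := by
        ext p <;> simp [pc_inv]
      have h3 := h1 (fun v => s⁻¹ * τ (w v) * s)
        (h2 ▸ G.mul_mem (G.mul_mem (G.inv_mem hs) hτ) hs) (by simp [e])
      rwa [mul_assoc, inv_mul_eq_one, eq_comm, mul_eq_right] at h3) with h1 | h1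
  · exfalso
    have key : ∀ S : Finset T, u ∉ S → ∀ e : Perm Δ, sign e = 1 →
        ∃ τ : T → Perm Δ, pl τ ∈ G ∧ (∀ v ∈ S, τ v = 1) ∧ τ u = e := by
      have gen : ∀ S : Finset T, (∃ τ : T → Perm Δ, pl τ ∈ G ∧ (∀ v ∈ S, τ v = 1) ∧ τ u ≠ 1) →
          ∀ e : Perm Δ, sign e = 1 →
          ∃ τ : T → Perm Δ, pl τ ∈ G ∧ (∀ v ∈ S, τ v = 1) ∧ τ u = e := by
        rintro S ⟨τ, a1, a2, a3⟩ e he
        let L : Subgroup (Perm Δ) :=
          { carrier := {e | ∃ τ : T → Perm Δ, pl τ ∈ G ∧ (∀ v ∈ S, τ v = 1) ∧ τ u = e}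
            one_mem' := ⟨1, G.one_mem, fun _ _ => rfl, rfl⟩
            mul_mem' := by
              rintro _ _ ⟨x, x1, x2, rfl⟩ ⟨y, y1, y2, rfl⟩
              exact ⟨x * y, map_mul pl x y ▸ G.mul_mem x1 y1,
                fun v hv => by simp [x2 v hv, y2 v hv], rfl⟩
            inv_mem' := by
              rintro _ ⟨x, x1, x2, rfl⟩
              exact ⟨x⁻¹, map_inv pl x ▸ G.inv_mem x1, fun v hv => by simp [x2 v hv], rfl⟩ }
        refine alt_le m5 L ?_ (x := τ u) ⟨τ, a1, a2, rfl⟩ a3 he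
        rintro d hd _ ⟨x, x1, x2, rfl⟩
        exact ⟨_, cj x x1 d hd, fun v hv => by simp [x2 v hv], rfl⟩
      intro S
      induction S using Finset.induction_on with
      | empty => exact fun _ e he => ⟨fun _ => e, c.h1 e he, by simp, rfl⟩
      | insert v S hv ih =>
        intro hu
        rw [Finset.mem_insert, not_or] at hu
        obtain ⟨e1, e2, b1, b2, b3⟩ := exists_noncomm m5
        obtain ⟨x, x1, x2, rfl⟩ := ih hu.2 e1 b1
        have : ∃ τ : T → Perm Δ, pl τ ∈ G ∧ τ v = 1 ∧ τ u ≠ 1 := by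
          by_contra hc
          push Not at hc
          exact hu.1 (h1 v u hc).symm
        obtain ⟨τ, y1, y2, y3⟩ := this
        obtain ⟨y, y1, y2, rfl⟩ := gen {v} ⟨τ, y1, by simpa using y2, y3⟩ e2 b2
        refine gen _ ⟨x * y * x⁻¹ * y⁻¹, ?_, fun z hz => ?_, b3⟩
        · simp only [map_mul, map_inv]
          exact G.mul_mem (G.mul_mem (G.mul_mem x1 y1) (G.inv_mem x1)) (G.inv_mem y1)
        · rcases Finset.mem_insert.1 hz with rfl | hz
          · simp [y2 z (by simp)]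
          · simp [x2 z hz]
    obtain ⟨d, hd⟩ := exists_not_mem ({a, b} : Finset Δ) (by
      have := Finset.card_le_two (a := a) (b := b); omega)
    simp only [Finset.mem_insert, Finset.mem_singleton, not_or] at hd
    have h3 := isThreeCycle_swap_mul_swap_same hab (Ne.symm hd.1) (Ne.symm hd.2)
    obtain ⟨τ, a1, a2, a3⟩ := key (Finset.univ.erase u) (by simp) _ h3.sign
    have h4 : (pl τ).support ⊆ (τ u).support.image fun z => (z, u) := fun p hp => by
      rw [mem_support] at hp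
      have : p.2 = u := by
        by_contra e
        exact hp (by simp [a2 p.2 (by simpa using e)])
      subst this
      exact Finset.mem_image.2 ⟨p.1, mem_support.2 fun e => hp (by simp [e]), rfl⟩
    have h5 := c.no3 _ a1 ((Finset.card_le_card h4).trans
      (Finset.card_image_le.trans (by rw [a3, h3.card_support])))
    apply h3.ne_one
    rw [← a3]
    ext z
    simpa using congrArg (fun p : Perm (Δ × T) => (p (z, u)).1) h5
  · have : (σ t)⁻¹ * σ u = 1 := eq_one_of_comm_alt (by omega) fun e he => by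
      have h2 : sign (σ t * e * (σ t)⁻¹) = 1 := by simp [he]
      have h3 : pl (σ * (fun _ => e) * σ⁻¹ * fun _ => (σ t * e * (σ t)⁻¹)⁻¹) ∈ G := by
        simp only [map_mul, map_inv]
        exact G.mul_mem (G.mul_mem (G.mul_mem h (c.h1 e he)) (G.inv_mem h))
          (G.inv_mem (c.h1 _ h2))
      have h4 := h1 t u _ h3 (by simp)
      simp only [Pi.mul_apply, Pi.inv_apply, mul_inv_eq_one] at h4
      calc _ = (σ t)⁻¹ * (σ u * e * (σ u)⁻¹) * σ u := by group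
        _ = _ := by rw [h4]; group
    exact inv_mul_eq_one.1 this

theorem lines {x : Perm (Δ × T)} (hx : x ∈ G) {w : Perm T} (h : ∀ p, (x p).2 = w p.2) :
    ∃ s : Perm Δ, x = pc s w := by
  obtain ⟨σ, rfl⟩ := exists_pl h
  obtain ⟨t⟩ : Nonempty T := Fintype.card_pos_iff.1 (by have := c.n2; omega)
  have key : ∀ u, σ u = σ t := fun u => by
    have : (σ t)⁻¹ * σ u = 1 := eq_one_of_comm_alt (by have := c.m5; omega) fun e he => by
      have h2 : pl (σ * (fun _ => e) * σ⁻¹) = pl σ * pc 1 w * pc e 1 * (pl σ * pc 1 w)⁻¹ := by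
        simp only [map_mul, map_inv, pl_const, mul_inv_rev, pc_inv, mul_assoc]
        congr 1
        simp only [← mul_assoc, pc_mul]
        simp
      have h4 := c.diag (h2 ▸ G.mul_mem (G.mul_mem hx (c.h1 e he)) (G.inv_mem hx)) u t
      simp only [Pi.mul_apply, Pi.inv_apply] at h4
      calc _ = (σ t)⁻¹ * (σ u * e * (σ u)⁻¹) * σ u := by group
        _ = _ := by rw [h4]; group
    exact (inv_mul_eq_one.1 this).symm
  exact ⟨σ t, by ext p <;> simp [key]⟩

theorem fixA {A : Finset Δ} (hA : min 3 (Fintype.card Δ - 3) ≤ A.card) {x : Perm (Δ × T)}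
    (hx : x ∈ G) (h : ∀ a ∈ A, ∀ t, x (a, t) = (a, t)) (p : Δ × T) : (x p).2 = p.2 := by
  have m5 := c.m5
  obtain ⟨A, hAA, hA⟩ := Finset.exists_subset_card_eq hA
  replace h : ∀ a ∈ A, ∀ t, x (a, t) = (a, t) := fun a ha => h a (hAA ha)
  obtain ⟨e0, he0⟩ := exists_not_mem A (by omega)
  obtain ⟨a, ha, b, hb, hab⟩ := Finset.one_lt_card.1 (show 1 < A.card by omega)
  have ev : ∀ e ∉ A, ∀ f ∉ A, ∃ y ∈ G, (∀ a ∈ A, ∀ t, y (a, t) = (a, t)) ∧
      ∀ t, y (e, t) = (f, t) := fun e he f hf => by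
    obtain ⟨s, s1, s2, s3⟩ := exists_even A (by omega) he hf
    exact ⟨pc s 1, c.h1 s s1, fun a ha t => by simp [s2 a ha], fun t => by simp [s3]⟩
  rcases c.rel (fun t u => ∃ y ∈ G, (∀ a ∈ A, ∀ t, y (a, t) = (a, t)) ∧
      ∃ e ∉ A, ∃ f ∉ A, y (e, t) = (f, u))
    (fun t => ⟨1, G.one_mem, fun _ _ _ => rfl, e0, he0, e0, he0, rfl⟩)
    (by
      rintro t u v ⟨y, y1, y2, e, he, f, hf, y3⟩ ⟨z, z1, z2, e', he', f', hf', z3⟩
      obtain ⟨k, k1, k2, k3⟩ := ev f hf e' he'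
      exact ⟨z * k * y, G.mul_mem (G.mul_mem z1 k1) y1,
        fun a ha t => by simp only [mul_apply, y2 a ha, k2 a ha, z2 a ha], e, he, f', hf',
        by simp only [mul_apply, y3, k3, z3]⟩)
    (by
      rintro w hw t u ⟨y, y1, y2, e, he, f, hf, y3⟩
      obtain ⟨s, s1, s2⟩ := c.lift hab hw
      have s3 : ∀ z, s z ∈ A ↔ z ∈ A := fun z => by
        rcases s1 with rfl | rfl
        · rfl
        · rw [swap_apply_def]; split_ifs <;> simp [*]
      refine ⟨pc s w * y * (pc s w)⁻¹, G.mul_mem (G.mul_mem s2 y1) (G.inv_mem s2),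
        fun z hz t => ?_, s e, by rwa [s3], s f, by rwa [s3], by simp [pc_inv, y3]⟩
      have : s⁻¹ z ∈ A := (s3 _).1 (by simpa using hz)
      simp only [mul_apply, pc_inv, pc_apply, y2 _ this]
      simp) with h1 | h1
  · obtain ⟨e, t⟩ := p
    by_cases he : e ∈ A
    · rw [h e he]
    · refine (h1 t _ ⟨x, hx, h, e, he, (x (e, t)).1, fun hf => he ?_, rfl⟩).symm
      have := x.injective (h _ hf (x (e, t)).2)
      have e1 : (x (e, t)).1 = e := congrArg Prod.fst this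
      rwa [e1] at hf
  · refine absurd (fun p hp q hq => ?_) (c.hJ A hA)
    simp only [Finset.mem_product, Finset.mem_univ, and_true] at hp hq ⊢
    obtain ⟨y, y1, y2, e, he, f, hf, y3⟩ := h1 p.2 q.2
    obtain ⟨k, k1, k2, k3⟩ := ev _ hp e he
    obtain ⟨l, l1, l2, l3⟩ := ev f hf _ hq
    refine ⟨l * y * k, G.mul_mem (G.mul_mem l1 y1) k1, fun z hz => ?_, ?_⟩
    · change l (y (k (z.1, z.2))) = (z.1, z.2)
      rw [k2 _ hz, y2 _ hz, l2 _ hz]
    · change l (y (k (p.1, p.2))) = (q.1, q.2)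
      rw [k3, y3, l3]

theorem fixA' {A : Finset Δ} (hA : min 3 (Fintype.card Δ - 3) ≤ A.card) {x : Perm (Δ × T)}
    (hx : x ∈ G) (h : ∀ a ∈ A, ∀ t, x (a, t) = (a, t)) :
    ∃ s : Perm Δ, x = pc s 1 ∧ ∀ a ∈ A, s a = a := by
  obtain ⟨s, rfl⟩ := c.lines hx (w := 1) (c.fixA hA hx h)
  obtain ⟨t⟩ : Nonempty T := Fintype.card_pos_iff.1 (by have := c.n2; omega)
  exact ⟨s, rfl, fun a ha => congrArg Prod.fst (h a ha t)⟩

end Core

end CF.WrP
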