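import Cfsg.Agent.WrP.C

/-! The centralizer of a coordinate 3-cycle. -/

set_option autoImplicit false

namespace CF.WrP

open Equiv Equiv.Perm MulAction

variable {Δ T : Type*} [Fintype Δ] [DecidableEq Δ]

theorem comm_apply {g : Perm Δ} {x : Perm (Δ × T)} (h : Commute x (pc g 1)) (j : ℕ) (a : Δ)
    (t : T) : x ((g ^ j) a, t) = ((g ^ j) (x (a, t)).1, (x (a, t)).2) := by
  have := congrArg (fun p : Perm (Δ × T) => p (a, t)) (h.pow_right j).eq
  simpa [pc_pow] using this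

theorem supp_comm {g : Perm Δ} {x : Perm (Δ × T)} (h : Commute x (pc g 1)) (p : Δ × T) :
    (x p).1 ∈ g.support ↔ p.1 ∈ g.support := by
  have h1 := comm_apply h 1 p.1 p.2
  rw [pow_one] at h1
  rw [mem_support, mem_support, not_iff_not]
  constructor
  · intro e
    rw [e] at h1
    exact congrArg Prod.fst (x.injective h1)
  · intro e
    rw [e] at h1
    exact (congrArg Prod.fst h1).symm

/-- Pairs of an element of the centralizer and its action on the 3-cycles. -/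
def Gam (G : Subgroup (Perm (Δ × T))) (g : Perm Δ) : Subgroup (Perm (Δ × T) × Perm T) where
  carrier := {z | z.1 ∈ G ∧ Commute z.1 (pc g 1) ∧ ∀ a ∈ g.support, ∀ t, (z.1 (a, t)).2 = z.2 t}
  one_mem' := ⟨G.one_mem, Commute.one_left _, fun _ _ _ => rfl⟩
  mul_mem' := by
    rintro ⟨x, w⟩ ⟨y, v⟩ ⟨x1, x2, x3⟩ ⟨y1, y2, y3⟩
    refine ⟨G.mul_mem x1 y1, x2.mul_left y2, fun a ha t => ?_⟩
    have := x3 _ ((supp_comm y2 (a, t)).2 ha) (y (a, t)).2
    change (x (y (a, t))).2 = w (v t)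
    rw [← y3 a ha t]
    exact this
  inv_mem' := by
    rintro ⟨x, w⟩ ⟨x1, x2, x3⟩
    refine ⟨G.inv_mem x1, x2.inv_left, fun a ha t => ?_⟩
    have := x3 _ ((supp_comm x2.inv_left (a, t)).2 ha) (x⁻¹ (a, t)).2
    change (x⁻¹ (a, t)).2 = w⁻¹ t
    rw [eq_inv_iff_eq]
    exact this.symm.trans (by simp)

theorem mem_Gam {G : Subgroup (Perm (Δ × T))} {g : Perm Δ} {x : Perm (Δ × T)} {w : Perm T} :
    (x, w) ∈ Gam G g ↔
      x ∈ G ∧ Commute x (pc g 1) ∧ ∀ a ∈ g.support, ∀ t, (x (a, t)).2 = w t := Iff.rfl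

theorem comm_of_fix {g s : Perm Δ} (h : ∀ a ∈ g.support, s a = a) : Commute s g :=
  Disjoint.commute fun a => by
    by_cases e : a ∈ g.support
    · exact Or.inl (h a e)
    · exact Or.inr (notMem_support.1 e)

theorem pc_mem_Gam {G : Subgroup (Perm (Δ × T))} {g s : Perm Δ} {w : Perm T} (h : pc s w ∈ G)
    (hs : ∀ a ∈ g.support, s a = a) : (pc s w, w) ∈ Gam G g :=
  ⟨h, by rw [Commute, SemiconjBy, pc_mul, pc_mul, (comm_of_fix hs).eq]; simp, fun _ _ _ => rfl⟩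

theorem exists_Gam [Finite T] {G : Subgroup (Perm (Δ × T))} {g : Perm Δ} (hg : IsThreeCycle g)
    {x : Perm (Δ × T)} (hx : x ∈ G) (h : Commute x (pc g 1)) : ∃ w, (x, w) ∈ Gam G g := by
  obtain ⟨a, ha⟩ : g.support.Nonempty := Finset.card_pos.1 (by rw [hg.card_support]; omega)
  have h1 : Function.Bijective fun t => (x (a, t)).2 :=
    Finite.injective_iff_bijective.1 fun t u e => by
      obtain ⟨j, hj⟩ := hg.isCycle.exists_pow_eq
        (mem_support.1 ((supp_comm h (a, t)).2 ha)) (mem_support.1 ((supp_comm h (a, u)).2 ha))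
      have := comm_apply h j a t
      rw [hj, show (x (a, t)).2 = (x (a, u)).2 from e] at this
      exact congrArg Prod.snd (x.injective this)
  refine ⟨Equiv.ofBijective _ h1, hx, h, fun b hb t => ?_⟩
  obtain ⟨j, rfl⟩ := hg.isCycle.exists_pow_eq (mem_support.1 ha) (mem_support.1 hb)
  exact (congrArg Prod.snd (comm_apply h j a t) :)

theorem ker_pow {G : Subgroup (Perm (Δ × T))} {g : Perm Δ} (hg : IsThreeCycle g)
    {x : Perm (Δ × T)} (hx : (x, 1) ∈ Gam G g) (t : T) :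
    ∃ j : ℕ, ∀ a ∈ g.support, x (a, t) = ((g ^ j) a, t) := by
  obtain ⟨a, ha⟩ : g.support.Nonempty := Finset.card_pos.1 (by rw [hg.card_support]; omega)
  obtain ⟨j, hj⟩ := hg.isCycle.exists_pow_eq (mem_support.1 ha)
    (mem_support.1 ((supp_comm hx.2.1 (a, t)).2 ha))
  refine ⟨j, fun b hb => ?_⟩
  obtain ⟨l, rfl⟩ := hg.isCycle.exists_pow_eq (mem_support.1 ha) (mem_support.1 hb)
  rw [comm_apply hx.2.1, ← hj, hx.2.2 a ha t, ← mul_apply, ← mul_apply, pow_mul_comm]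
  rfl

theorem ker_cube {G : Subgroup (Perm (Δ × T))} {g : Perm Δ} (hg : IsThreeCycle g)
    {x : Perm (Δ × T)} (hx : (x, 1) ∈ Gam G g) (a : Δ) (ha : a ∈ g.support) (t : T) :
    (x ^ 3) (a, t) = (a, t) := by
  obtain ⟨j, hj⟩ := ker_pow hg hx t
  have h1 : ∀ b ∈ g.support, (g ^ j) b ∈ g.support := fun b hb => pow_apply_mem_support.2 hb
  have h2 : (g ^ j) ^ 3 = 1 := by
    rw [← pow_mul, mul_comm, pow_mul, ← hg.orderOf, pow_orderOf_eq_one, one_pow]
  rw [pow_three, mul_apply, mul_apply, hj a ha, hj _ (h1 a ha), hj _ (h1 _ (h1 a ha)),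
    ← mul_apply, ← mul_apply, mul_assoc, ← pow_three, h2]
  rfl

theorem ker_comm {G : Subgroup (Perm (Δ × T))} {g : Perm Δ} (hg : IsThreeCycle g)
    {x y : Perm (Δ × T)} (hx : (x, 1) ∈ Gam G g) (hy : (y, 1) ∈ Gam G g) (a : Δ)
    (ha : a ∈ g.support) (t : T) : ((y * x)⁻¹ * (x * y)) (a, t) = (a, t) := by
  obtain ⟨j, hj⟩ := ker_pow hg hx t
  obtain ⟨l, hl⟩ := ker_pow hg hy t
  rw [mul_apply, inv_eq_iff_eq, mul_apply, mul_apply, hj a ha, hl a ha,
    hj _ (pow_apply_mem_support.2 ha), hl _ (pow_apply_mem_support.2 ha), ← mul_apply,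
    ← mul_apply, pow_mul_comm]

theorem conj_fix {g : Perm Δ} {x y : Perm (Δ × T)} (hx : Commute x (pc g 1))
    (hy : ∀ a ∈ g.support, ∀ t, y (a, t) = (a, t)) (a : Δ) (ha : a ∈ g.support) (t : T) :
    (x * y * x⁻¹) (a, t) = (a, t) := by
  have := hy _ ((supp_comm hx.inv_left (a, t)).2 ha) (x⁻¹ (a, t)).2
  rw [mul_apply, mul_apply, show y (x⁻¹ (a, t)) = x⁻¹ (a, t) from this]
  simp

theorem idx_ineq {m N : ℕ} (h : 5 ≤ m) (hN : m ^ 2 ≤ N) : 2 * (m * N) < (N - 1).choose 2 := by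
  have h1 : 4 * m + 5 ≤ N := by nlinarith
  obtain ⟨M, rfl⟩ : ∃ M, N = M + 2 := ⟨N - 2, by omega⟩
  rw [Nat.choose_two_right, Nat.lt_iff_add_one_le, Nat.le_div_iff_mul_le (by norm_num),
    show M + 2 - 1 = M + 1 by omega, Nat.add_sub_cancel]
  have h2 := Nat.mul_le_mul_right M (show 4 * m + 3 ≤ M by omega)
  nlinarith

namespace Core

variable [Fintype T] [DecidableEq T] {G : Subgroup (Perm (Δ × T))} {W : Subgroup (Perm T)}
  (c : Core G W) {g : Perm Δ} (hg : IsThreeCycle g)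
include c hg

theorem liftG {w : Perm T} (hw : w ∈ W) : ∃ s : Perm Δ, (pc s w, w) ∈ Gam G g := by
  have := c.m5
  obtain ⟨a, ha, b, hb, hab⟩ := Finset.one_lt_card.1
    (show 1 < g.supportᶜ.card by rw [Finset.card_compl, hg.card_support]; omega)
  rw [Finset.mem_compl] at ha hb
  obtain ⟨s, s1, s2⟩ := c.lift hab hw
  refine ⟨s, pc_mem_Gam s2 fun z hz => ?_⟩
  rcases s1 with rfl | rfl
  · rfl
  · exact swap_apply_of_ne_of_ne (fun e => ha (e ▸ hz)) fun e => hb (e ▸ hz)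

omit hg in
theorem liftT {p q : Δ × T} (hp : p.1 ∉ g.support) (hq : q.1 ∉ g.support) :
    ∃ s : Perm Δ, ∃ w ∈ W, (pc s w, w) ∈ Gam G g ∧ pc s w p = q := by
  obtain ⟨w, hw, a1, a2⟩ := c.hT (swap p.1 q.1) p.2 q.2
  exact ⟨_, w, hw, pc_mem_Gam a2 fun z hz =>
    swap_apply_of_ne_of_ne (fun e => hp (e ▸ hz)) fun e => hq (e ▸ hz), by simp [a1]⟩

theorem ker6 (h6 : 6 ≤ Fintype.card Δ) {x : Perm (Δ × T)} (hx : (x, 1) ∈ Gam G g) (p : Δ × T) :
    (x p).2 = p.2 := by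
  have hA : min 3 (Fintype.card Δ - 3) ≤ g.support.card := by rw [hg.card_support]; omega
  obtain ⟨e, he⟩ := exists_not_mem g.support (by rw [hg.card_support]; omega)
  have ind : ∀ y ∈ G, Commute y (pc g 1) → ∀ f ∉ g.support, ∀ t,
      (y (f, t)).2 = (y (e, t)).2 := fun y hy hc f hf t => by
    obtain ⟨s, s1, s2, s3⟩ := exists_even g.support (by rw [hg.card_support]; omega) he hf
    have := c.fixA hA (G.mul_mem (G.mul_mem hy (c.h1 s s1)) (G.inv_mem hy))
      (conj_fix hc fun a ha t => by simp [s2 a ha]) (y (e, t))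
    simpa [s3] using this
  let r : Perm (Δ × T) → T → T := fun y t => (y (e, t)).2
  have rm : ∀ y z : Perm (Δ × T), y ∈ G → Commute y (pc g 1) → Commute z (pc g 1) → ∀ t,
      r (y * z) t = r y (r z t) := fun y z hy hc hz t =>
    ind y hy hc _ (fun h => he ((supp_comm hz (e, t)).1 h)) _
  have ri : ∀ y : Perm (Δ × T), y ∈ G → Commute y (pc g 1) → ∀ t, r y (r y⁻¹ t) = t :=
    fun y hy hc t => by rw [← rm y y⁻¹ hy hc hc.inv_left, mul_inv_cancel]; rfl
  rcases c.rel (fun t u => ∃ y, (y, 1) ∈ Gam G g ∧ r y t = u) (fun t => ⟨1, one_mem _, rfl⟩)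
    (by
      rintro t _ _ ⟨y, hy, rfl⟩ ⟨z, hz, rfl⟩
      exact ⟨z * y, by simpa using mul_mem hz hy, rm z y hz.1 hz.2.1 hy.2.1 t⟩)
    (by
      rintro w hw t _ ⟨y, hy, rfl⟩
      obtain ⟨s, hs⟩ := c.liftG hg hw
      refine ⟨pc s w * y * (pc s w)⁻¹, by simpa using mul_mem (mul_mem hs hy) (inv_mem hs), ?_⟩
      rw [rm _ _ (mul_mem hs.1 hy.1) (hs.2.1.mul_left hy.2.1) hs.2.1.inv_left,
        rm _ _ hs.1 hs.2.1 hy.2.1]
      simp [r, pc_inv]) with h1 | h1
  · obtain ⟨a, t⟩ := p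
    by_cases ha : a ∈ g.support
    · exact hx.2.2 a ha t
    · exact (ind x hx.1 hx.2.1 a ha t).trans (h1 t _ ⟨x, hx, rfl⟩).symm
  exfalso
  have semi : ∀ d, (d, 1) ∈ Gam G g → ∀ v, r d v = v → ∀ v', r d v' = v' := fun d hd v e1 v' => by
    obtain ⟨y, hy, rfl⟩ := h1 v v'
    have a1 := c.fixA hA (mul_mem (inv_mem (mul_mem hy.1 hd.1)) (mul_mem hd.1 hy.1))
      (ker_comm hg hd hy) (e, v)
    have a2 : r (d * y) v = r (y * d * ((y * d)⁻¹ * (d * y))) v := by rw [mul_inv_cancel_left]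
    rw [rm _ _ (mul_mem hy.1 hd.1) (hy.2.1.mul_left hd.2.1)
      ((hy.2.1.mul_left hd.2.1).inv_left.mul_left (hd.2.1.mul_left hy.2.1)),
      show r ((y * d)⁻¹ * (d * y)) v = v from a1, rm _ _ hy.1 hy.2.1 hd.2.1, e1,
      rm _ _ hd.1 hd.2.1 hy.2.1] at a2
    exact a2
  obtain ⟨t, u, htu⟩ := Fintype.exists_pair_of_one_lt_card (α := T) (by have := c.n2; omega)
  obtain ⟨w, hw, w1, w2, w3⟩ := c.hs t u htu.symm
  obtain ⟨s, hs⟩ := c.liftG hg hw
  obtain ⟨y, hy, y1⟩ := h1 t u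
  obtain ⟨v, hv⟩ := exists_not_mem (w.support ∪ w.support.image (r y⁻¹)) (by
    have := Finset.card_union_le w.support (w.support.image (r y⁻¹))
    have := Finset.card_image_le (s := w.support) (f := r y⁻¹)
    omega)
  rw [Finset.mem_union, not_or] at hv
  have iy : ∀ t, r y⁻¹ (r y t) = t := fun t => by
    simpa using ri y⁻¹ (inv_mem hy.1) hy.2.1.inv_left t
  have v1 : w v = v := notMem_support.1 hv.1
  have v2 : w (r y v) = r y v :=
    notMem_support.1 fun h => hv.2 (Finset.mem_image.2 ⟨_, h, iy v⟩)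
  have hd : (y⁻¹ * ((pc s w)⁻¹ * (y * pc s w)), 1) ∈ Gam G g := by
    simpa using mul_mem (inv_mem hy) (mul_mem (inv_mem hs) (mul_mem hy hs))
  have rd : ∀ z, r (y⁻¹ * ((pc s w)⁻¹ * (y * pc s w))) z = r y⁻¹ (w⁻¹ (r y (w z))) := fun z => by
    rw [rm _ _ (inv_mem hy.1) hy.2.1.inv_left
      (hs.2.1.inv_left.mul_left (hy.2.1.mul_left hs.2.1)),
      rm _ _ (inv_mem hs.1) hs.2.1.inv_left (hy.2.1.mul_left hs.2.1), rm _ _ hy.1 hy.2.1 hs.2.1]
    rfl
  have a1 := semi _ hd v (by rw [rd, v1, (inv_eq_iff_eq.2 v2.symm : w⁻¹ _ = _), iy]) t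
  rw [rd, w1, y1] at a1
  have a2 := congrArg (r y) a1
  rw [ri y hy.1 hy.2.1, y1, inv_eq_iff_eq] at a2
  exact w2 a2.symm

theorem ker5 (h5 : Fintype.card Δ = 5) {x : Perm (Δ × T)} (hx : (x, 1) ∈ Gam G g) (p : Δ × T) :
    (x p).2 = p.2 := by
  have hA : min 3 (Fintype.card Δ - 3) ≤ g.support.card := by rw [hg.card_support]; omega
  have cE : g.supportᶜ.card = 2 := by rw [Finset.card_compl, hg.card_support]; omega
  obtain ⟨e, f, hef, hE⟩ := Finset.card_eq_two.1 cE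
  have mE : ∀ z, z ∉ g.support ↔ z = e ∨ z = f := fun z => by
    rw [← Finset.mem_compl, hE]; simp
  have J : ∀ y ∈ G, (∀ a ∈ g.support, ∀ t, y (a, t) = (a, t)) → y = 1 ∨ y = pc (swap e f) 1 :=
    fun y hy h => by
      obtain ⟨s, rfl, hs⟩ := c.fixA' hA hy h
      have s1 : s.support ⊆ {e, f} := fun z hz => by
        rw [← hE, Finset.mem_compl]
        exact fun h => mem_support.1 hz (hs z h)
      by_cases e1 : s = 1
      · exact Or.inl (by rw [e1, pc_one])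
      · have s2 := two_le_card_support_of_ne_one e1
        have s3 := Finset.eq_of_subset_of_card_le s1 (by rw [Finset.card_pair hef]; exact s2)
        obtain ⟨a, b, hab, rfl⟩ := card_support_eq_two.1 (by rw [s3, Finset.card_pair hef])
        rw [support_swap hab] at s3
        have : swap a b = swap e f := by
          have ha : a ∈ ({e, f} : Finset Δ) := s3 ▸ by simp
          have hb : b ∈ ({e, f} : Finset Δ) := s3 ▸ by simp
          simp only [Finset.mem_insert, Finset.mem_singleton] at ha hb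
          rcases ha with rfl | rfl <;> rcases hb with rfl | rfl
          exacts [absurd rfl hab, rfl, swap_comm _ _, absurd rfl hab]
        exact Or.inr (by rw [this])
  have Jc : ∀ y ∈ G, (∀ a ∈ g.support, ∀ t, y (a, t) = (a, t)) → ∀ z ∈ G, Commute z (pc g 1) →
      y * y = 1 ∧ z * y = y * z := fun y hy h z hz hc => by
    rcases J y hy h with rfl | e1
    · simp
    refine ⟨by rw [e1, pc_mul, swap_mul_self, mul_one, pc_one], ?_⟩
    rcases J _ (mul_mem (mul_mem hz hy) (inv_mem hz)) (conj_fix hc h) with e2 | e2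
    · rw [mul_inv_eq_one, mul_eq_left] at e2
      simp [e2]
    · rw [← e1, mul_inv_eq_iff_eq_mul] at e2
      exact e2
  have ab : ∀ y z, (y, 1) ∈ Gam G g → (z, 1) ∈ Gam G g → y * z = z * y := fun y z hy hz => by
    have k1 := mul_mem (inv_mem (mul_mem hz.1 hy.1)) (mul_mem hy.1 hz.1)
    obtain ⟨k2, k3⟩ := Jc _ k1 (ker_comm hg hy hz) y hy.1 hy.2.1
    have k4 := (Jc _ (pow_mem hy.1 3) (ker_cube hg hy) z hz.1 hz.2.1).2
    set k := (z * y)⁻¹ * (y * z) with hk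
    have k5 : z⁻¹ * y * z = y * k := by rw [hk]; group
    have k6 : (z⁻¹ * y * z) ^ 3 = y ^ 3 := by
      have := conj_pow (i := 3) (a := z⁻¹) (b := y)
      rw [inv_inv] at this
      rw [this, mul_assoc, ← k4, inv_mul_cancel_left]
    rw [k5, Commute.mul_pow k3, mul_eq_left, pow_three, k2, mul_one] at k6
    rw [hk, inv_mul_eq_one] at k6
    exact k6.symm
  let P : Subgroup (Perm (Δ × T)) :=
    { carrier := {y | (y, 1) ∈ Gam G g ∧ y ^ 3 = 1}
      one_mem' := ⟨one_mem _, one_pow _⟩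
      mul_mem' := fun {y z} hy hz => ⟨by simpa using mul_mem hy.1 hz.1, by
        rw [Commute.mul_pow (ab y z hy.1 hz.1), hy.2, hz.2, one_mul]⟩
      inv_mem' := fun {y} hy => ⟨by simpa using inv_mem hy.1, by rw [inv_pow, hy.2, inv_one]⟩ }
  let H : Subgroup (Perm (Δ × T)) := (Gam G g).map (MonoidHom.fst _ _)
  obtain ⟨t⟩ : Nonempty T := Fintype.card_pos_iff.1 (by have := c.n2; omega)
  have he : e ∉ g.support := (mE e).2 (Or.inl rfl)
  have hO : orbit H ((e, t) : Δ × T) = ↑(g.supportᶜ ×ˢ (Finset.univ : Finset T)) := by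
    ext q
    simp only [Finset.coe_product, Set.mem_prod, Finset.mem_coe, Finset.mem_compl,
      Finset.mem_univ, and_true]
    constructor
    · rintro ⟨⟨_, ⟨y, w⟩, hy, rfl⟩, rfl⟩ h
      exact he ((supp_comm hy.2.1 (e, t)).1 h)
    · intro h
      obtain ⟨s, w, -, a1, a2⟩ := c.liftT (p := (e, t)) he h
      exact ⟨⟨_, _, a1, rfl⟩, a2⟩
  haveI : Fact (Nat.Prime 3) := ⟨Nat.prime_three⟩
  obtain ⟨b, hb, hP⟩ := CF.Perm.exists_fixed_in_orbit (p := 3) H P
    (fun y hy => ⟨_, hy.1, rfl⟩) (fun y => ⟨1, Subtype.ext (by simpa using y.2.2)⟩) (e, t) (by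
      rw [hO, Nat.card_coe_set_eq, Set.ncard_coe_finset, Finset.card_product, cE,
        Finset.card_univ]
      have := c.h5 h5
      omega)
  have hb' : b.1 ∉ g.support := by
    rw [hO] at hb
    simpa using hb
  have PL : ∀ y ∈ P, ∀ q, (y q).2 = q.2 := fun y hy =>
    c.fixA (A := g.supportᶜ) (by omega) hy.1.1 fun a ha u => by
      obtain ⟨s, w, -, a1, a2⟩ := c.liftT (q := (a, u)) hb' (Finset.mem_compl.1 ha)
      have := hP ((pc s w)⁻¹ * y * pc s w) ⟨by
        simpa using mul_mem (mul_mem (inv_mem a1) hy.1) a1, by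
        have := conj_pow (i := 3) (a := (pc s w)⁻¹) (b := y)
        rw [inv_inv] at this
        rw [this, hy.2]; simp⟩
      change (pc s w)⁻¹ (y (pc s w b)) = b at this
      rwa [inv_eq_iff_eq, a2] at this
  have x3 := (Jc _ (pow_mem hx.1 3) (ker_cube hg hx) 1 (one_mem _) (Commute.one_left _)).1
  have x4 : x ^ 4 ∈ P := ⟨by simpa using pow_mem hx 4, by
    rw [← pow_mul, show 4 * 3 = 3 + 3 + (3 + 3) from rfl, pow_add, pow_add, x3, one_mul]⟩
  have := PL _ x4 ((x ^ 3)⁻¹ p)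
  rw [c.fixA hA (inv_mem (pow_mem hx.1 3)) (fun a ha t => by
    rw [inv_eq_iff_eq, ker_cube hg hx a ha t]), ← mul_apply, pow_succ', mul_inv_cancel_right]
    at this
  exact this

theorem ker {x : Perm (Δ × T)} (hx : (x, 1) ∈ Gam G g) : ∃ s : Perm Δ, x = pc s 1 := by
  refine c.lines hx.1 ?_
  rcases c.m5.eq_or_lt with h | h
  · exact c.ker5 hg h.symm hx
  · exact c.ker6 hg h hx

theorem of_mem {x : Perm (Δ × T)} {w : Perm T} (hx : (x, w) ∈ Gam G g) (hw : w ∈ W) :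
    ∃ s : Perm Δ, x = pc s w := by
  obtain ⟨s, hs⟩ := c.liftG hg hw
  obtain ⟨s', h⟩ := c.ker hg (x := (pc s w)⁻¹ * x) (by simpa using mul_mem (inv_mem hs) hx)
  rw [inv_mul_eq_iff_eq_mul, pc_mul, mul_one] at h
  exact ⟨_, h⟩

theorem main : (∀ x ∈ G, Commute x (pc g 1) → ∃ s : Perm Δ, ∃ w ∈ W, x = pc s w) ∨
    (W ≠ ⊤ ∧ ∀ z : Perm T, IsThreeCycle z → pc 1 z ∈ G) := by
  classical
  have m5 := c.m5
  let X : Subgroup (Perm T) := (Gam G g).map (MonoidHom.snd _ _)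
  by_cases hX : X ≤ W
  · refine Or.inl fun x hx hc => ?_
    obtain ⟨w, hw⟩ := exists_Gam hg hx hc
    have := hX ⟨_, hw, rfl⟩
    obtain ⟨s, hs⟩ := c.of_mem hg hw this
    exact ⟨s, w, this, hs⟩
  have hA := (c.hI X fun w hw => by
    obtain ⟨s, hs⟩ := c.liftG hg hw
    exact ⟨_, hs, rfl⟩).resolve_left hX
  have hW : W ≠ ⊤ := fun h => hX (h ▸ le_top)
  have hN := c.hN.resolve_left hW
  have N25 : 25 ≤ Fintype.card T := by nlinarith
  have st : ∀ e ∉ g.support, ∀ t x w, (x, w) ∈ Gam G g → x (e, t) = (e, t) → w t = t := by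
    intro e he t
    let Y : Subgroup (Perm T) :=
      (Gam G g ⊓ (stabilizer (Perm (Δ × T)) (e, t)).comap (MonoidHom.fst _ _)).map
        (MonoidHom.snd _ _)
    obtain ⟨a, b, hab⟩ := Fintype.exists_pair_of_one_lt_card (α := T) (by omega)
    have hi : Y.index ≤ 2 * (Fintype.card Δ * Fintype.card T) := by
      have ex : ∀ p : Δ × T, ∃ z ∈ Gam G g, (∃ z' ∈ Gam G g, z'.1 (e, t) = p) → z.1 (e, t) = p :=
        fun p => by
          by_cases h : ∃ z' ∈ Gam G g, z'.1 (e, t) = p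
          · obtain ⟨z, h1, h2⟩ := h
            exact ⟨z, h1, fun _ => h2⟩
          · exact ⟨1, one_mem _, fun h' => absurd h' h⟩
      choose z z1 z2 using ex
      have := Nat.card_le_card_of_surjective
        (fun q : Bool × (Δ × T) => (((if q.1 then swap a b else 1) * (z q.2).2 : Perm T) :
          Perm T ⧸ Y)) fun q => by
        obtain ⟨v, rfl⟩ := QuotientGroup.mk_surjective q
        have key : ∀ v' : Perm T, sign v' = 1 → ∃ p, ((z p).2)⁻¹ * v' ∈ Y := fun v' h => by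
          obtain ⟨y, y1, rfl⟩ := hA (mem_alternatingGroup.2 h)
          refine ⟨y.1 (e, t), (z _)⁻¹ * y,
            ⟨(Gam G g).mul_mem ((Gam G g).inv_mem (z1 _)) y1, ?_⟩, rfl⟩
          change (z _).1⁻¹ (y.1 (e, t)) = (e, t)
          rw [inv_eq_iff_eq, z2 _ ⟨y, y1, rfl⟩]
        rcases Int.units_eq_one_or (sign v) with h | h
        · obtain ⟨p, hp⟩ := key v h
          exact ⟨(false, p), QuotientGroup.eq.2 (by simpa using hp)⟩
        · obtain ⟨p, hp⟩ := key (swap a b * v) (by simp [h, hab])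
          exact ⟨(true, p), QuotientGroup.eq.2 (by simpa [mul_assoc] using hp)⟩
      rw [Subgroup.index_eq_card]
      simpa using this
    rcases small_index Y t (by omega) (hi.trans_lt (idx_ineq m5 hN)) (fun u hu => by
        obtain ⟨w, -, w1, w2, w3, -⟩ := c.hs' t u hu
        exact ⟨w, ⟨(pc 1 w, w), ⟨pc_mem_Gam w3 fun _ _ => rfl, by
          change pc 1 w (e, t) = (e, t)
          simp [w1]⟩, rfl⟩, w1, w2⟩) with h | h
    · exact fun x w h1 h2 => h w ⟨(x, w), ⟨h1, h2⟩, rfl⟩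
    · exfalso
      obtain ⟨u, hu⟩ := exists_not_mem {t} (by simp; omega)
      obtain ⟨w, hw, -, w2, -, w4⟩ := c.hs' u t (by simpa [eq_comm] using hu)
      obtain ⟨⟨x, w⟩, ⟨x1, x2⟩, rfl⟩ := h (mem_alternatingGroup.2 w4)
      obtain ⟨s, rfl⟩ := c.of_mem hg x1 hw
      exact w2 (congrArg Prod.snd (show pc s w (e, t) = (e, t) from x2))
  have ln : ∀ x w, (x, w) ∈ Gam G g → ∃ s, x = pc s w := fun x w h => c.lines h.1 fun p => by
    by_cases hp : p.1 ∈ g.support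
    · exact h.2.2 _ hp p.2
    obtain ⟨s, v, -, a1, a2⟩ := c.liftT (q := x p) hp fun e => hp ((supp_comm h.2.1 p).1 e)
    have := st _ hp p.2 _ _ (mul_mem (inv_mem a1) h) (by
      change (pc s v)⁻¹ (x p) = p
      rw [inv_eq_iff_eq, a2])
    change v⁻¹ (w p.2) = p.2 at this
    rw [inv_eq_iff_eq] at this
    rw [this, ← a2]
    rfl
  refine Or.inr ⟨hW, fun z hz => ?_⟩
  obtain ⟨⟨x, w⟩, h, e⟩ := hA (mem_alternatingGroup.2 (show sign (z * z) = 1 by simp))
  change w = z * z at e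
  subst e
  obtain ⟨s, rfl⟩ := ln _ _ h
  have := mul_mem (mul_mem h.1 h.1) (inv_mem (c.h1 (s * s) (by simp)))
  have z3 : z * z * (z * z) = z := by
    rw [mul_assoc, ← pow_three, ← hz.orderOf, pow_orderOf_eq_one, mul_one]
  rwa [pc_mul, pc_inv, pc_mul, mul_inv_cancel, inv_one, mul_one, z3] at this

end Core

end CF.WrP
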