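import Cfsg.Agent.WrP.A

/-! The wreath product in product action: basic structure, primitivity, Hamming graph. -/

set_option autoImplicit false

namespace CF.WrP

open Equiv Equiv.Perm MulAction Function

variable {ι Δ : Type*}

/-- An element of the wreath product. -/
def wr (π : Perm ι) (τ : ι → Perm Δ) : Perm (ι → Δ) where
  toFun f i := τ i (f (π.symm i))
  invFun f i := (τ (π i))⁻¹ (f (π i))
  left_inv f := by ext i; simp
  right_inv f := by ext i; simp

@[simp] theorem wr_apply (π : Perm ι) (τ : ι → Perm Δ) (f : ι → Δ) (i : ι) :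
    wr π τ f i = τ i (f (π.symm i)) := rfl

theorem wr_inv_apply (π : Perm ι) (τ : ι → Perm Δ) (f : ι → Δ) (i : ι) :
    (wr π τ)⁻¹ f i = (τ (π i))⁻¹ (f (π i)) := rfl

variable (ι Δ) in
/-- The wreath product in product action. -/
def Wr : Subgroup (Perm (ι → Δ)) where
  carrier := {σ | ∃ (π : Perm ι) (τ : ι → Perm Δ), ∀ f i, σ f i = τ i (f (π.symm i))}
  one_mem' := ⟨1, 1, fun _ _ => rfl⟩
  mul_mem' := by
    rintro σ σ' ⟨π, τ, h⟩ ⟨π', τ', h'⟩
    exact ⟨π * π', fun i => τ i * τ' (π.symm i), fun f i => by rw [mul_apply, h, h']; rfl⟩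
  inv_mem' := by
    rintro σ ⟨π, τ, h⟩
    obtain rfl : σ = wr π τ := Equiv.ext fun f => funext (h f)
    exact ⟨π⁻¹, fun i => (τ (π i))⁻¹, fun _ _ => rfl⟩

theorem wr_mem (π : Perm ι) (τ : ι → Perm Δ) : wr π τ ∈ Wr ι Δ := ⟨π, τ, fun _ _ => rfl⟩

theorem exists_wr {σ : Perm (ι → Δ)} (h : σ ∈ Wr ι Δ) : ∃ π τ, σ = wr π τ := by
  obtain ⟨π, τ, h⟩ := h
  exact ⟨π, τ, Equiv.ext fun f => funext (h f)⟩

/-- The base group. -/
def dg : (ι → Perm Δ) →* Perm (ι → Δ) where
  toFun := wr 1
  map_one' := rfl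
  map_mul' _ _ := rfl

@[simp] theorem dg_apply (τ : ι → Perm Δ) (f : ι → Δ) (i : ι) : dg τ f i = τ i (f i) := rfl

variable [DecidableEq ι]

/-- A permutation of one coordinate. -/
def co (i : ι) : Perm Δ →* Perm (ι → Δ) := dg.comp (MonoidHom.mulSingle (fun _ => Perm Δ) i)

theorem co_apply (i : ι) (s : Perm Δ) (f : ι → Δ) : co i s f = update f i (s (f i)) := by
  ext j
  change (Pi.mulSingle i s : ι → Perm Δ) j (f j) = _
  by_cases h : j = i
  · subst h; simp
  · simp [h]

theorem co_mem (i : ι) (s : Perm Δ) : co i s ∈ Wr ι Δ := wr_mem _ _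

theorem co_fix {i : ι} {s : Perm Δ} {f : ι → Δ} : co i s f = f ↔ s (f i) = f i := by
  rw [co_apply, update_eq_self_iff]

theorem co_mul_wr (i : ι) (s : Perm Δ) (π : Perm ι) (τ : ι → Perm Δ) :
    co i s * wr π τ = wr π (update τ i (s * τ i)) := by
  ext f j
  rw [mul_apply, co_apply]
  by_cases h : j = i
  · subst h; simp
  · simp [h]

theorem wr_update (π : Perm ι) (τ : ι → Perm Δ) (f : ι → Δ) (i : ι) (c : Δ) :
    wr π τ (update f i c) = update (wr π τ f) (π i) (τ (π i) c) := by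
  ext j
  by_cases h : j = π i
  · subst h; simp
  · rw [update_of_ne h, wr_apply, wr_apply, update_of_ne fun e => h (by rw [← e]; simp)]

theorem wr_conj (π : Perm ι) (τ : ι → Perm Δ) (i : ι) (s : Perm Δ) :
    wr π τ * co i s * (wr π τ)⁻¹ = co (π i) (τ (π i) * s * (τ (π i))⁻¹) := by
  rw [mul_inv_eq_iff_eq_mul]
  refine Equiv.ext fun f => ?_
  rw [mul_apply, mul_apply, co_apply, co_apply, wr_update]
  simp

theorem dg_mem [Finite ι] {G : Subgroup (Perm (ι → Δ))} {τ : ι → Perm Δ}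
    (h : ∀ i, co i (τ i) ∈ G) : dg τ ∈ G :=
  Subgroup.pi_mem_of_mulSingle_mem (H := G.comap dg) τ h

theorem conn [Fintype ι] (R : (ι → Δ) → (ι → Δ) → Prop) (hr : ∀ f, R f f)
    (ht : ∀ a b c, R a b → R b c → R a c) (h : ∀ f i c, R f (update f i c)) (f f' : ι → Δ) :
    R f f' := by
  have : ∀ S : Finset ι, R f (S.piecewise f' f) := fun S => by
    induction S using Finset.induction_on with
    | empty => exact hr f
    | insert i S _ ih => exact ht _ _ _ ih (by rw [Finset.piecewise_insert]; exact h _ _ _)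
  simpa using this Finset.univ

/-- Adjacency (or equality) in the Hamming graph. -/
def Ad (f f' : ι → Δ) : Prop := ∃ i c, f' = update f i c

theorem Ad.wr {f f' : ι → Δ} (h : Ad f f') {σ : Perm (ι → Δ)} (hσ : σ ∈ Wr ι Δ) :
    Ad (σ f) (σ f') := by
  obtain ⟨π, τ, rfl⟩ := exists_wr hσ
  obtain ⟨i, c, rfl⟩ := h
  exact ⟨_, _, wr_update π τ f i c⟩

theorem ad_iff {f f' : ι → Δ} {σ : Perm (ι → Δ)} (hσ : σ ∈ Wr ι Δ) :
    Ad (σ f) (σ f') ↔ Ad f f' :=
  ⟨fun h => by simpa using h.wr (inv_mem hσ), fun h => h.wr hσ⟩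

theorem not_ad {f : ι → Δ} {i j : ι} {a b : Δ} (h : i ≠ j) (ha : a ≠ f i) (hb : b ≠ f j) :
    ¬ Ad (update f i a) (update f j b) := by
  rintro ⟨l, c, e⟩
  by_cases h1 : i = l
  · subst h1
    have := congrFun e j
    rw [update_self, update_of_ne h.symm, update_of_ne h.symm] at this
    exact hb this
  · have := congrFun e i
    rw [update_of_ne h, update_of_ne h1, update_self] at this
    exact ha this.symm

theorem autH [Fintype ι] [Fintype Δ] [DecidableEq Δ] (h3 : 2 ≤ Fintype.card Δ) {σ : Perm (ι → Δ)}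
    (h : ∀ f f', Ad (σ f) (σ f') ↔ Ad f f') : σ ∈ Wr ι Δ := by
  -- `P f i d`: the line through `f` in direction `i` is mapped in direction `d`
  have ex : ∀ f i, ∃ d, ∀ a, ∃ c, σ (update f i a) = update (σ f) d c := fun f i => by
    obtain ⟨a, ha⟩ := Fintype.exists_ne_of_one_lt_card (α := Δ) (by omega) (f i)
    obtain ⟨d, c, e⟩ := (h f _).2 ⟨i, a, rfl⟩
    have hc : c ≠ σ f d := fun e' => ha (by
      rw [e', update_eq_self] at e
      simpa using congrFun (σ.injective e) i)
    refine ⟨d, fun b => ?_⟩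
    obtain ⟨d', c', e'⟩ := (h f _).2 ⟨i, b, rfl⟩
    by_cases h1 : c' = σ f d'
    · exact ⟨σ f d, by rw [e', h1, update_eq_self, update_eq_self]⟩
    by_cases h2 : d = d'
    · exact ⟨c', h2 ▸ e'⟩
    exact absurd ((h _ _).2 ⟨i, b, by simp⟩) (e ▸ e' ▸ not_ad h2 hc h1)
  choose d cc hd using ex
  have ne : ∀ f i a, a ≠ f i → cc f i a ≠ σ f (d f i) := fun f i a ha e => ha (by
    have := hd f i a
    rw [e, update_eq_self] at this
    simpa using congrFun (σ.injective this) i)
  have uq : ∀ f i a l c, a ≠ f i → σ (update f i a) = update (σ f) l c → l = d f i :=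
    fun f i a l c ha e => by
      by_contra hl
      have := congrFun (e.symm.trans (hd f i a)) (d f i)
      rw [update_of_ne (Ne.symm hl), update_self] at this
      exact ne f i a ha this.symm
  have inj : ∀ f, Injective (d f) := fun f i j e => by
    by_contra hij
    obtain ⟨a, ha⟩ := Fintype.exists_ne_of_one_lt_card (α := Δ) (by omega) (f i)
    obtain ⟨b, hb⟩ := Fintype.exists_ne_of_one_lt_card (α := Δ) (by omega) (f j)
    exact not_ad hij ha hb ((h _ _).1 ⟨d f i, cc f j b, by rw [hd, hd, e]; simp⟩)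
  have step : ∀ f j b i, d (update f j b) i = d f i := fun f j b i => by
    by_cases hb : b = f j
    · rw [hb, update_eq_self]
    by_cases hij : i = j
    · subst hij
      refine (uq (update f i b) i (f i) _ (σ f (d f i)) (by simpa using Ne.symm hb) ?_).symm
      rw [update_idem, update_eq_self, hd f i b, update_idem, update_eq_self]
    obtain ⟨a, ha⟩ := Fintype.exists_ne_of_one_lt_card (α := Δ) (by omega) (f i)
    have ha' : a ≠ update f j b i := by rwa [update_of_ne hij]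
    by_contra hne
    have d12 : d f i ≠ d f j := fun e => hij (inj f e)
    have e2 := hd (update f j b) i a
    have n2 := ne _ i a ha'
    obtain ⟨l, c, e1⟩ := (h (update f i a) (update (update f j b) i a)).2
      ⟨j, b, update_comm (Ne.symm hij) _ _ _⟩
    rw [hd f j b] at e2 n2
    rw [hd f i a, e2] at e1
    have l1 : d f i = l := by
      by_contra l1
      have := congrFun e1 (d f i)
      rw [update_of_ne (Ne.symm hne), update_of_ne d12, update_of_ne l1, update_self] at this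
      exact ne f i a ha this.symm
    subst l1
    have hA : Ad (σ f) (σ (update (update f j b) i a)) := ⟨d f i, c, by rw [e2, e1]; simp⟩
    obtain ⟨l, c', e⟩ := (h _ _).1 hA
    by_cases h1 : i = l
    · have := congrFun e j
      rw [update_of_ne (Ne.symm hij), update_self, update_of_ne (h1 ▸ Ne.symm hij)] at this
      exact hb this
    · have := congrFun e i
      rw [update_self, update_of_ne h1] at this
      exact ha this
  have cst : ∀ f f', d f' = d f := conn (fun f f' => d f' = d f) (fun _ => rfl)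
    (fun _ _ _ a b => b.trans a) fun f j b => funext (step f j b)
  obtain ⟨a0⟩ : Nonempty Δ := Fintype.card_pos_iff.1 (by omega)
  let π : Perm ι := Equiv.ofBijective (d fun _ => a0) (Finite.injective_iff_bijective.1 (inj _))
  have hπ : ∀ f i, d f i = π i := fun f i => congrFun (cst _ f) i
  have dep : ∀ i f f', f i = f' i → σ f (π i) = σ f' (π i) := fun i f f' => by
    have := conn (fun f f' : ι → Δ => ∀ a, σ (update f i a) (π i) = σ (update f' i a) (π i))
      (fun _ _ => rfl) (fun _ _ _ a b c => (a c).trans (b c)) (fun f j b a => by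
        by_cases hij : j = i
        · subst hij; simp
        · rw [update_comm hij, hd _ j, hπ, update_of_ne fun e => hij (π.injective e).symm]) f f'
    intro e
    have := this (f i)
    rwa [update_eq_self, e, update_eq_self] at this
  have bij : ∀ i, Bijective fun a => σ (fun _ => a) (π i) := fun i =>
    Finite.injective_iff_bijective.1 fun a b e => by
      by_contra hab
      have e1 := dep i (fun _ => b) (update (fun _ => a) i b) (by simp)
      rw [hd, hπ, update_self] at e1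
      exact ne (fun _ => a) i b (Ne.symm hab) (by rw [hπ, ← e1]; exact e.symm)
  refine ⟨π, fun i => Equiv.ofBijective _ (bij (π.symm i)), fun f i => ?_⟩
  obtain ⟨i, rfl⟩ := π.surjective i
  simpa using dep i f (fun _ => f i) rfl

variable [Fintype ι] [Fintype Δ] [DecidableEq Δ]

/-- What is used of a group containing the wreath product, or its even part. -/
structure Hyp (G : Subgroup (Perm (ι → Δ))) : Prop where
  m5 : 5 ≤ Fintype.card Δ
  ev : ∀ (i : ι) (s : Perm Δ), sign s = 1 → co i s ∈ G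
  fx : ∀ y ∈ Wr ι Δ, y ∈ G ∨ ∀ (j : ι) (a b : Δ), a ≠ b → co j (swap a b) * y ∈ G
  six : Fintype.card Δ = 6 → Wr ι Δ ≤ G

theorem Hyp.of_le (h5 : 5 ≤ Fintype.card Δ) {G : Subgroup (Perm (ι → Δ))} (h : Wr ι Δ ≤ G) :
    Hyp G := ⟨h5, fun i s _ => h (co_mem i s), fun _ hy => Or.inl (h hy), fun _ => h⟩

namespace Hyp

variable {G : Subgroup (Perm (ι → Δ))} (H : Hyp G)
include H

theorem move (f f' : ι → Δ) : ∃ τ : ι → Perm Δ, dg τ ∈ G ∧ dg τ f = f' := by
  have : ∀ i, ∃ s : Perm Δ, sign s = 1 ∧ s (f i) = f' i := fun i => by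
    obtain ⟨s, h1, -, h2⟩ := exists_even (∅ : Finset Δ) (by have := H.m5; simp; omega)
      (e := f i) (f := f' i) (by simp) (by simp)
    exact ⟨s, h1, h2⟩
  choose τ h1 h2 using this
  exact ⟨τ, dg_mem fun i => H.ev i _ (h1 i), funext h2⟩

theorem trans : IsPretransitive G (ι → Δ) := ⟨fun f f' => by
  obtain ⟨τ, h1, h2⟩ := H.move f f'
  exact ⟨⟨_, h1⟩, h2⟩⟩

theorem lift (π : Perm ι) (τ : ι → Perm Δ) (j : ι) {a b : Δ} (h : a ≠ b) :
    ∃ s : Perm Δ, (s = 1 ∨ s = swap a b) ∧ wr π (update τ j (s * τ j)) ∈ G :=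
  (H.fx _ (wr_mem π τ)).elim (fun e => ⟨1, Or.inl rfl, by simpa using e⟩) fun e =>
    ⟨_, Or.inr rfl, co_mul_wr j (swap a b) π τ ▸ e j a b h⟩

theorem rel (R : (ι → Δ) → (ι → Δ) → Prop) (hr : ∀ f, R f f) (hs : ∀ a b, R a b → R b a)
    (ht : ∀ a b c, R a b → R b c → R a c) (hi : ∀ g ∈ G, ∀ a b, R a b → R (g a) (g b))
    {α β : ι → Δ} (h : R α β) (hne : α ≠ β) (f f' : ι → Δ) : R f f' := by
  have m5 := H.m5
  obtain ⟨i, hi'⟩ := ne_iff.1 hne
  have mv : ∀ p q : ι → Δ, R p q → p i ≠ q i → ∀ c, c ≠ p i → R p (update q i c) :=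
    fun p q h1 h2 c h3 => by
      obtain ⟨s, s1, s2, s3⟩ := exists_even {p i} (by simp; omega) (e := q i) (f := c)
        (by simpa using h2.symm) (by simpa using h3)
      have := hi _ (H.ev i s s1) p q h1
      rwa [co_fix.2 (s2 _ (by simp)), co_apply, s3] at this
  obtain ⟨b, hb⟩ := exists_not_mem {α i, β i} (by
    have := Finset.card_le_two (a := α i) (b := β i); omega)
  simp only [Finset.mem_insert, Finset.mem_singleton, not_or] at hb
  have s1 : R β (update β i b) := ht _ _ _ (hs _ _ h) (mv α β h hi' b hb.1)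
  have s2 : ∀ c, R β (update β i c) := fun c => by
    by_cases e : c = β i
    · rw [e, update_eq_self]; exact hr _
    · simpa using mv _ _ s1 (by simpa using Ne.symm hb.2) c e
  have s3 : ∀ f c, R f (update f i c) := fun f c => by
    obtain ⟨τ, t1, rfl⟩ := H.move β f
    have := hi _ t1 _ _ (s2 ((τ i)⁻¹ c))
    rwa [show dg τ (update β i ((τ i)⁻¹ c)) = update (dg τ β) i c from
      (wr_update 1 τ β i _).trans (by simp; rfl)] at this
  refine conn R hr ht (fun f j c => ?_) f f'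
  obtain ⟨s, -, t1⟩ := H.lift (swap i j) 1 j hb.1
  generalize update _ j _ = τ at t1
  obtain ⟨f, rfl⟩ := (wr (swap i j) τ).surjective f
  have := hi _ t1 _ _ (s3 f ((τ j)⁻¹ c))
  rwa [wr_update, swap_apply_left, show τ j ((τ j)⁻¹ c) = c by simp] at this

open scoped Pointwise in
theorem prim : IsPreprimitive G (ι → Δ) := by
  haveI := H.trans
  refine IsPreprimitive.mk fun {B} hB => ?_
  rcases B.subsingleton_or_nontrivial with h | ⟨α, hα, β, hβ, h⟩
  · exact Or.inl h
  refine Or.inr (Set.eq_univ_of_forall fun f => ?_)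
  obtain ⟨g, h1, h2⟩ := H.rel (fun a b => ∃ g : G, a ∈ g • B ∧ b ∈ g • B)
    (fun f => by
      obtain ⟨g, hg⟩ := exists_smul_eq G α f
      exact ⟨g, ⟨α, hα, hg⟩, ⟨α, hα, hg⟩⟩)
    (fun _ _ ⟨g, a, b⟩ => ⟨g, b, a⟩)
    (fun _ _ _ ⟨g, a, b⟩ ⟨g', a', b'⟩ =>
      ⟨g, a, (hB.smul_eq_smul_of_nonempty ⟨_, b, a'⟩).symm ▸ b'⟩)
    (fun k hk _ _ ⟨g, a, b⟩ => ⟨⟨k, hk⟩ * g, by
      rw [mul_smul]; exact ⟨Set.smul_mem_smul_set a, Set.smul_mem_smul_set b⟩⟩)
    ⟨1, by simpa using hα, by simpa using hβ⟩ h α f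
  rwa [hB.smul_eq_of_nonempty ⟨α, h1, hα⟩] at h2

theorem conj {i j : ι} {g g' : Perm Δ} (hg : IsThreeCycle g) (hg' : IsThreeCycle g') :
    ∃ y ∈ G, y ∈ Wr ι Δ ∧ y * co i g * y⁻¹ = co j g' := by
  have := H.m5
  obtain ⟨s, hs⟩ := isConj_iff.1 (isConj_of_cycleType_eq (hg.cycleType.trans hg'.cycleType.symm))
  obtain ⟨a, ha, b, hb, hab⟩ := Finset.one_lt_card.1
    (show 1 < g'.supportᶜ.card by rw [Finset.card_compl, hg'.card_support]; omega)
  rw [Finset.mem_compl, Perm.notMem_support] at ha hb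
  obtain ⟨t, t1, t2⟩ := H.lift (swap i j) (fun _ => s) j hab
  refine ⟨_, t2, wr_mem _ _, ?_⟩
  rw [wr_conj, swap_apply_left, update_self, mul_inv_rev, mul_assoc t, mul_assoc t,
    ← mul_assoc _ s⁻¹, hs]
  rcases t1 with rfl | rfl
  · simp
  · rw [← mul_assoc, swap_mul_eq_mul_swap, inv_eq_iff_eq.2 ha.symm, inv_eq_iff_eq.2 hb.symm,
      mul_inv_cancel_right]

end Hyp

end CF.WrP
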