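import Cfsg.Agent.WrP.B
import Cfsg.Agent.WrP.E
import Cfsg.Agent.S4220

/-! Counting in the product action, and overgroups with a Jordan set that is a union of
hyperplanes. -/

set_option autoImplicit false

namespace CF.WrP

open Equiv Equiv.Perm MulAction Function

variable {ι Δ : Type*} [DecidableEq ι] [Fintype ι] [Fintype Δ] [DecidableEq Δ]

/-- A union of parallel hyperplanes. -/
def B1 (i : ι) (A : Finset Δ) : Finset (ι → Δ) := Finset.univ.filter fun f => f i ∈ A

@[simp] theorem mem_B1 {i : ι} {A : Finset Δ} {f : ι → Δ} : f ∈ B1 i A ↔ f i ∈ A := by simp [B1]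

omit [DecidableEq Δ] in
theorem card_box (D : Finset ι) (S : ι → Finset Δ) [∀ f : ι → Δ, Decidable (∀ j ∈ D, f j ∈ S j)] :
    (Finset.univ.filter fun f : ι → Δ => ∀ j ∈ D, f j ∈ S j).card =
      (∏ j ∈ D, (S j).card) * Fintype.card Δ ^ (Fintype.card ι - D.card) := by
  have : (Finset.univ.filter fun f : ι → Δ => ∀ j ∈ D, f j ∈ S j) =
      Fintype.piFinset fun j => if j ∈ D then S j else Finset.univ := by
    ext f
    simp only [Finset.mem_filter, Finset.mem_univ, true_and, Fintype.mem_piFinset]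
    refine ⟨fun h j => ?_, fun h j hj => by simpa [hj] using h j⟩
    split_ifs with hj
    exacts [h j hj, Finset.mem_univ _]
  rw [this, Fintype.card_piFinset, ← Finset.prod_mul_prod_compl D, ← Finset.card_compl,
    ← Finset.prod_const]
  congr 1
  · exact Finset.prod_congr rfl fun j hj => by rw [if_pos hj]
  · exact Finset.prod_congr rfl fun j hj => by
      rw [if_neg (Finset.mem_compl.1 hj), Finset.card_univ]

theorem card_B1 (i : ι) (A : Finset Δ) :
    (B1 i A).card = A.card * Fintype.card Δ ^ (Fintype.card ι - 1) := by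
  classical
  have := card_box {i} fun _ => A
  simpa [B1] using this

theorem card_supp_co (i : ι) (s : Perm Δ) :
    (co i s).support.card = s.support.card * Fintype.card Δ ^ (Fintype.card ι - 1) := by
  rw [← card_B1 i]
  congr 1
  ext f
  simp [co_fix]

theorem card_fun' (i : ι) :
    Fintype.card (ι → Δ) = Fintype.card Δ * Fintype.card Δ ^ (Fintype.card ι - 1) := by
  have : 0 < Fintype.card ι := Fintype.card_pos_iff.2 ⟨i⟩
  rw [Fintype.card_fun, ← pow_succ', Nat.sub_add_cancel this]

theorem coord_of_card (m5 : 5 ≤ Fintype.card Δ) {σ : Perm (ι → Δ)} (hσ : σ ∈ Wr ι Δ)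
    (h3 : σ ^ 3 = 1) (i : ι)
    (hc : σ.support.card = 3 * Fintype.card Δ ^ (Fintype.card ι - 1)) :
    ∃ j g, IsThreeCycle g ∧ σ = co j g := by
  classical
  obtain ⟨π, τ, rfl⟩ := exists_wr hσ
  have hp : 0 < Fintype.card Δ ^ (Fintype.card ι - 1) := by positivity
  have hf : (wr π τ).supportᶜ.card =
      (Fintype.card Δ - 3) * Fintype.card Δ ^ (Fintype.card ι - 1) := by
    rw [Finset.card_compl, hc, card_fun' i, Nat.sub_mul]
  have hπ : π = 1 := by
    rw [← inv_eq_one]
    ext j
    by_contra hj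
    change π.symm j ≠ j at hj
    have := Finset.card_le_card_of_injOn (s := (wr π τ).supportᶜ)
      (t := (Finset.univ : Finset ({l // l ≠ j} → Δ))) (fun f l => f l.1)
      (fun _ _ => Finset.mem_univ _) fun f h1 f' h2 e => by
        simp only [Finset.coe_compl, Set.mem_compl_iff, Finset.mem_coe,
          Perm.notMem_support] at h1 h2
        ext l
        by_cases hl : l = j
        · rw [hl, ← congrFun h1 j, ← congrFun h2 j, wr_apply, wr_apply]
          exact congrArg _ (congrFun e ⟨_, hj⟩)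
        · exact congrFun e ⟨l, hl⟩
    rw [hf, Finset.card_univ, Fintype.card_fun, Fintype.card_subtype_compl,
      Fintype.card_subtype_eq] at this
    have h2 := Nat.mul_le_mul_right (Fintype.card Δ ^ (Fintype.card ι - 1))
      (show 2 ≤ Fintype.card Δ - 3 by omega)
    omega
  subst hπ
  have t3 : ∀ j, τ j ≠ 1 → (τ j).supportᶜ.card ≤ Fintype.card Δ - 3 := fun j hj => by
    have a1 : τ j ^ 3 = 1 := by
      ext a
      have : dg (τ ^ 3) = 1 := (map_pow dg τ 3).trans h3
      exact congrFun (congrArg (fun p : Perm (ι → Δ) => p fun _ => a) this) j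
    have a2 := two_le_card_support_of_ne_one hj
    have a3 : (τ j).support.card ≠ 2 := fun e => by
      obtain ⟨a, b, -, e'⟩ := card_support_eq_two.1 e
      rw [e', pow_three, swap_mul_self, mul_one] at a1
      exact hj (e'.trans a1)
    rw [Finset.card_compl]
    omega
  obtain ⟨j, hj⟩ : ∃ j, τ j ≠ 1 := by
    by_contra h
    push Not at h
    obtain rfl : τ = 1 := funext h
    have : (wr (1 : Perm ι) (1 : ι → Perm Δ)) = 1 := rfl
    rw [this] at hc
    simp only [Perm.support_one, Finset.card_empty] at hc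
    omega
  have hl : ∀ l, l ≠ j → τ l = 1 := fun l hl => by
    by_contra h
    have a1 := card_box {j, l} fun x => (τ x).supportᶜ
    have a2 := Finset.card_le_card (show (wr 1 τ).supportᶜ ⊆
      Finset.univ.filter fun f : ι → Δ => ∀ x ∈ ({j, l} : Finset ι), f x ∈ (τ x).supportᶜ from
      fun f hf => by
        simp only [Finset.mem_compl, Perm.notMem_support, Finset.mem_filter, Finset.mem_univ,
          true_and] at hf ⊢
        exact fun x _ => congrFun hf x)
    have a3 : 2 ≤ Fintype.card ι := by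
      simpa [Finset.card_pair hl] using Finset.card_le_univ {l, j}
    rw [a1, hf, Finset.prod_pair hl.symm, Finset.card_pair hl.symm,
      show Fintype.card ι - 1 = Fintype.card ι - 2 + 1 by omega, pow_succ', ← mul_assoc] at a2
    have a4 := Nat.le_of_mul_le_mul_right a2 (by positivity)
    have a5 := Nat.mul_le_mul (t3 j hj) (t3 l h)
    have a6 := Nat.le_of_mul_le_mul_left (a4.trans a5) (by omega)
    omega
  have e : wr 1 τ = co j (τ j) := by
    refine congrArg dg (funext fun l => ?_)
    change τ l = (Pi.mulSingle j (τ j) : ι → Perm Δ) l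
    by_cases h : l = j
    · subst h; simp
    · simp [h, hl l h]
  refine ⟨j, τ j, card_support_eq_three_iff.1 ?_, e⟩
  rw [e, card_supp_co] at hc
  exact Nat.eq_of_mul_eq_mul_right hp hc

theorem exists_three (h : 3 ≤ Fintype.card Δ) (A : Finset Δ) (hA : A.card + 3 ≤ Fintype.card Δ) :
    ∃ g : Perm Δ, IsThreeCycle g ∧ ∀ a ∈ A, g a = a := by
  obtain ⟨S, h1, h2⟩ := Finset.exists_subset_card_eq (s := Aᶜ) (n := 3)
    (by rw [Finset.card_compl]; omega)
  obtain ⟨a, b, c, e1, e2, e3, rfl⟩ := Finset.card_eq_three.1 h2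
  refine ⟨_, isThreeCycle_swap_mul_swap_same e1 e2 e3, fun x hx => ?_⟩
  have : ∀ y ∈ ({a, b, c} : Finset Δ), x ≠ y := fun y hy e => Finset.mem_compl.1 (h1 hy) (e ▸ hx)
  rw [mul_apply, swap_apply_of_ne_of_ne (this a (by simp)) (this c (by simp)),
    swap_apply_of_ne_of_ne (this a (by simp)) (this b (by simp))]

theorem miller_data {N : ℕ} (h : N = 1 ∨ N = 5 ∨ 25 ≤ N) : ∃ k p r : ℕ, p.Prime ∧
    25 * N = k * p + r ∧ 2 ≤ k ∧ k < p ∧ k < r ∧ r ≤ 3 * N + 2 := by
  rcases h with rfl | rfl | h
  · exact ⟨3, 7, 4, by norm_num⟩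
  · exact ⟨3, 37, 14, by norm_num⟩
  obtain ⟨p, hp, h1, h2⟩ := Nat.exists_prime_lt_and_le_two_mul N (by omega)
  have e := Nat.div_add_mod (25 * N) p
  have e1 := Nat.mod_lt (25 * N) hp.pos
  have e2 : 25 * N / p < 25 := (Nat.div_lt_iff_lt_mul hp.pos).2 (by omega)
  have e3 : 12 ≤ 25 * N / p := (Nat.le_div_iff_mul_le hp.pos).2 (by omega)
  by_cases h3 : 25 * N / p < 25 * N % p
  · exact ⟨25 * N / p, p, 25 * N % p, hp, by rw [mul_comm _ p, e], by omega, by omega, h3, by omega⟩
  · obtain ⟨k, hk⟩ : ∃ k, 25 * N / p = k + 1 := ⟨25 * N / p - 1, by omega⟩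
    refine ⟨k, p, 25 * N % p + p, hp, ?_, by omega, by omega, by omega, by omega⟩
    rw [hk, mul_add, mul_comm p] at e
    omega

theorem Hyp.jordan {G : Subgroup (Perm (ι → Δ))} (H : Hyp G) (hk : 2 ≤ Fintype.card ι) {i : ι}
    {A : Finset Δ} (hA : A.card = min 3 (Fintype.card Δ - 3)) (h : Fl G (B1 i A)) :
    alternatingGroup (ι → Δ) ≤ G := by
  classical
  have m5 := H.m5
  have f1 : ∀ (j : ι) (A' : Finset Δ), A'.card = A.card → Fl G (B1 j A') := fun j A' h' => by
    obtain ⟨s, hs⟩ := exists_map_finset_eq A A' h'.symm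
    obtain ⟨a, ha, b, hb, hab⟩ := Finset.one_lt_card.1 (show 1 < A'.card by omega)
    obtain ⟨t, t1, t2⟩ := H.lift (swap i j) (fun _ => s) j hab
    have t3 : ∀ z, t (s z) ∈ A' ↔ z ∈ A := fun z => by
      have : s z ∈ A' ↔ z ∈ A := by rw [← hs]; simp
      rcases t1 with rfl | rfl
      · exact this
      · rw [← this, swap_apply_def]; split_ifs <;> simp [*]
    convert h.image t2 using 1
    ext f
    obtain ⟨f, rfl⟩ := (wr (swap i j) (update (fun _ => s) j (t * s))).surjective f
    rw [(Equiv.injective _).mem_finset_image]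
    simp [t3]
  have f2 : ∀ (j : ι) (A' : Finset Δ), 1 ≤ A'.card → A'.card ≤ A.card → Fl G (B1 j A') :=
    fun j A' h1 h2 => by
      obtain ⟨A1, a1, -, a2⟩ := CF.Perm.exists_superset_avoiding A' ∅ (by simp) h2 (by simp; omega)
      obtain ⟨A2, b1, b2, b3⟩ := CF.Perm.exists_superset_avoiding A' (A1 \ A')
        Finset.disjoint_sdiff h2 (by rw [Finset.card_sdiff_of_subset a1]; omega)
      have e : A1 ∩ A2 = A' := Finset.Subset.antisymm (fun z hz => by
        by_contra hz'
        rw [Finset.mem_inter] at hz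
        exact Finset.disjoint_left.1 b2 hz.2 (Finset.mem_sdiff.2 ⟨hz.1, hz'⟩))
        (Finset.subset_inter a1 b1)
      obtain ⟨o, ho⟩ := exists_not_mem (A1 ∪ A2) (by
        have := Finset.card_union_add_card_inter A1 A2
        rw [e] at this
        omega)
      rw [Finset.mem_union, not_or] at ho
      convert (f1 j A1 a2).inter (f1 j A2 b3) (o := fun _ => o) (by simpa using ho.1)
        (by simpa using ho.2) using 1
      ext f
      simp [← e]
  have f3 : ∀ (D : Finset ι) (S : ι → Finset Δ), (∀ j, 1 ≤ (S j).card ∧ (S j).card ≤ A.card) →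
      Fl G (Finset.univ.filter fun f : ι → Δ => ∀ j ∈ D, f j ∈ S j) := fun D S hS => by
    have : ∀ j, ∃ o, o ∉ S j := fun j => exists_not_mem _ (by have := (hS j).2; omega)
    choose o ho using this
    have key : ∀ p : ι → Δ, (¬ ∀ j ∈ D, p j ∈ S j) →
        ∃ x ∈ G, (∀ z : ι → Δ, (∀ j ∈ D, z j ∈ S j) → x z = z) ∧ x p = o := fun p hp => by
      push Not at hp
      obtain ⟨j, hj, hp⟩ := hp
      obtain ⟨x, hx, a1, a2⟩ := f2 j (S j) (hS j).1 (hS j).2 p (by simpa using hp) o
        (by simpa using ho j)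
      exact ⟨x, hx, fun z hz => a1 z (mem_B1.2 (hz j hj)), a2⟩
    intro p hp q hq
    simp only [Finset.mem_filter, Finset.mem_univ, true_and] at hp hq ⊢
    obtain ⟨x, hx, a1, a2⟩ := key p hp
    obtain ⟨y, hy, b1, b2⟩ := key q hq
    refine ⟨y⁻¹ * x, G.mul_mem (G.inv_mem hy) hx, fun z hz => ?_, ?_⟩
    · rw [mul_apply, a1 z hz, inv_eq_iff_eq, b1 z hz]
    · rw [mul_apply, a2, inv_eq_iff_eq, b2]
  have hn := card_fun' (Δ := Δ) i
  have hm : Fintype.card Δ ≤ Fintype.card Δ ^ (Fintype.card ι - 1) :=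
    Nat.le_self_pow (by omega) _
  have hm2 := Nat.mul_le_mul_left (Fintype.card Δ) hm
  have n25 : 25 ≤ Fintype.card (ι → Δ) := by nlinarith
  have tr : ∀ t, t ≤ A.card → IsMultiplyPretransitive G (ι → Δ) (t + 1) := fun t => by
    induction t with
    | zero => exact fun _ => is_one_pretransitive_iff.2 H.trans
    | succ t ih =>
      intro ht
      obtain ⟨A', -, a1⟩ := Finset.exists_subset_card_eq ht
      obtain ⟨a, -⟩ : A.Nonempty := Finset.card_pos.1 (by omega)
      refine (f3 Finset.univ (update (fun _ => {a}) i A') fun j => ?_).step (ih (by omega)) ?_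
        (by omega)
      · by_cases e : j = i
        · subst e; rw [update_self]; omega
        · rw [update_of_ne e, Finset.card_singleton]; omega
      · rw [card_box, ← Finset.mul_prod_erase _ _ (Finset.mem_univ i), update_self,
          Finset.prod_eq_one fun j hj => by rw [update_of_ne (Finset.mem_erase.1 hj).1]; rfl]
        simp [a1]
  by_contra hG
  have no3 : ∀ x ∈ G, x.support.card ≤ 3 → x = 1 := fun x hx h3 => by
    by_contra h1
    exact hG (CF.Perm.alternatingGroup_le_of_card_support_le H.prim hx h1 h3)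
  have ne1 : ∀ s : Perm Δ, s ≠ 1 → co i s ≠ 1 := fun s hs e => hs (by
    ext a
    exact co_fix.1 (show co i s (fun _ => a) = fun _ => a by rw [e]; rfl))
  rcases (show Fintype.card Δ = 5 ∨ Fintype.card Δ = 6 ∨ 7 ≤ Fintype.card Δ by omega)
    with e | e | e
  · obtain ⟨j, hj⟩ := Fintype.exists_ne_of_one_lt_card (α := ι) (by omega) i
    obtain ⟨a, -⟩ : A.Nonempty := Finset.card_pos.1 (by omega)
    have a2 : A.card = 2 := by omega
    set N := 5 ^ (Fintype.card ι - 2) with hN
    have c0 : 5 ^ (Fintype.card ι - 1) = 5 * N := by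
      rw [hN, ← pow_succ', show Fintype.card ι - 2 + 1 = Fintype.card ι - 1 by omega]
    obtain ⟨X, x1, c1⟩ : ∃ X : Finset (ι → Δ), Fl G X ∧ X.card = 2 * 2 * N :=
      ⟨_, f3 {i, j} (fun _ => A) fun _ => ⟨by omega, le_rfl⟩, by
        rw [card_box, Finset.prod_pair hj.symm, Finset.card_pair hj.symm, a2, e, ← hN]⟩
    have c2 := card_B1 i {a}
    rw [Finset.card_singleton, e, c0] at c2
    rw [e, c0] at hn
    have N1 : 0 < N := by positivity
    have t1 := line_lemma (tr 1 (by omega)) x1
      (f2 i {a} (by simp) (by rw [Finset.card_singleton]; omega)) (by omega) (by omega)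
      (3 * N + 2) (by omega) (by omega) (by omega)
    obtain ⟨k, p, r, p1, p2, p3, p4, p5, p6⟩ := miller_data (N := N) (by
      rcases (show Fintype.card ι - 2 = 0 ∨ Fintype.card ι - 2 = 1 ∨ 2 ≤ Fintype.card ι - 2
        by omega) with e' | e' | e'
      · left; rw [hN, e']; rfl
      · right; left; rw [hN, e']; rfl
      · exact Or.inr (Or.inr (Nat.pow_le_pow_right (n := 5) (by norm_num) e')))
    exact hG (Cfsg.Agent.S4220.result G p1 (by omega) (by omega) p4 p5 (by omega)
      (isMultiplyPretransitive_of_le (n := 3 * N + 2 + 1) (by omega)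
        (by rw [Nat.card_eq_fintype_card]; omega)))
  · obtain ⟨a, b, hab⟩ := Fintype.exists_pair_of_one_lt_card (α := Δ) (by omega)
    refine bochert4 (tr 3 (by omega)) no3 (H.six e (co_mem i (swap a b)))
      (ne1 _ (by simpa using hab)) (Or.inr ?_)
    rw [card_supp_co, card_support_swap hab]
    rw [e] at hn hm2 ⊢
    omega
  · obtain ⟨g, hg, -⟩ := exists_three (Δ := Δ) (by omega) ∅ (by simp; omega)
    refine bochert4 (tr 3 (by omega)) no3 (H.ev i g hg.sign) (ne1 _ hg.ne_one) (Or.inl ?_)
    rw [card_supp_co, hg.card_support]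
    have := Nat.mul_le_mul_right (Fintype.card Δ ^ (Fintype.card ι - 1)) e
    have := Nat.mul_le_mul e e
    omega

end CF.WrP
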