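import Cfsg.Agent.WrP.D
import Cfsg.Agent.WrP.F

/-! Overgroups of the wreath product in product action. -/

set_option autoImplicit false

namespace CF.WrP

open Equiv Equiv.Perm MulAction Function

variable {ι Δ : Type*} [DecidableEq ι]

/-- Splitting off one coordinate. -/
def up (i : ι) : Perm (Δ × ({j // j ≠ i} → Δ)) ≃* Perm (ι → Δ) :=
  (Equiv.funSplitAt i Δ).symm.permCongrHom

theorem up_apply (i : ι) (x : Perm (Δ × ({j // j ≠ i} → Δ))) (f : ι → Δ) :
    up i x f = (Equiv.funSplitAt i Δ).symm (x (Equiv.funSplitAt i Δ f)) := rfl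

theorem up_pc_self (i : ι) (s : Perm Δ) (w : Perm ({j // j ≠ i} → Δ)) (f : ι → Δ) :
    up i (pc s w) f i = s (f i) := by
  simp [up_apply, funSplitAt, piSplitAt]

theorem up_pc_ne (i : ι) (s : Perm Δ) (w : Perm ({j // j ≠ i} → Δ)) (f : ι → Δ) {j : ι}
    (h : j ≠ i) : up i (pc s w) f j = w (fun l => f l) ⟨j, h⟩ := by
  simp [up_apply, funSplitAt, piSplitAt, h]

theorem up_pc_one (i : ι) (s : Perm Δ) : up i (pc s 1) = co i s := by
  ext f j
  rw [co_apply]
  by_cases h : j = i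
  · subst h; rw [up_pc_self, update_self]
  · rw [up_pc_ne i s 1 f h, update_of_ne h]; rfl

theorem up_pc_co (i : ι) (l : {j // j ≠ i}) (s : Perm Δ) : up i (pc 1 (co l s)) = co l.1 s := by
  ext f j
  rw [co_apply]
  by_cases h : j = i
  · subst h; rw [up_pc_self, update_of_ne l.2.symm]; rfl
  · rw [up_pc_ne i 1 _ f h, co_apply]
    by_cases e : j = l.1
    · subst e; simp
    · rw [update_of_ne e, update_of_ne fun e' => e (congrArg Subtype.val e')]

theorem up_mem (i : ι) (s : Perm Δ) {w : Perm ({j // j ≠ i} → Δ)}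
    (hw : w ∈ Wr {j // j ≠ i} Δ) : up i (pc s w) ∈ Wr ι Δ := by
  obtain ⟨π, τ, rfl⟩ := exists_wr hw
  refine ⟨ofSubtype π, fun j => if h : j = i then s else τ ⟨j, h⟩, fun f j => ?_⟩
  rw [show (ofSubtype π).symm = ofSubtype π⁻¹ from (map_inv ofSubtype π).symm]
  by_cases h : j = i
  · subst h
    rw [up_pc_self, ofSubtype_apply_of_not_mem _ (by simp)]
    simp
  · rw [up_pc_ne i s _ f h, ofSubtype_apply_of_mem (p := fun j => j ≠ i) _ h]
    simp only [dif_neg h]
    rfl

variable [Fintype ι] [Fintype Δ] [DecidableEq Δ]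

theorem card_ne (i : ι) : Fintype.card {j // j ≠ i} = Fintype.card ι - 1 := by
  rw [Fintype.card_subtype_compl, Fintype.card_subtype_eq]

theorem sign_co (i : ι) (s : Perm Δ) :
    sign (co i s) = sign s ^ Fintype.card Δ ^ (Fintype.card ι - 1) := by
  rw [← up_pc_one, ← pl_const, ← card_ne i, ← Fintype.card_fun]
  refine (sign_permCongr _ _).trans ((sign_prodCongrLeft fun _ : {j // j ≠ i} → Δ => s).trans ?_)
  rw [Finset.prod_const, Finset.card_univ]

theorem card_supp_up (i : ι) (x : Perm (Δ × ({j // j ≠ i} → Δ))) :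
    (up i x).support.card = x.support.card := by
  refine Finset.card_bij (fun f _ => Equiv.funSplitAt i Δ f) (fun f hf => ?_)
    (fun _ _ _ _ e => (Equiv.funSplitAt i Δ).injective e) fun p hp => ?_
  · rwa [Perm.mem_support, up_apply, Ne, symm_apply_eq, ← Ne, ← Perm.mem_support] at hf
  · refine ⟨(Equiv.funSplitAt i Δ).symm p, ?_, by simp⟩
    rwa [Perm.mem_support, up_apply, Ne, symm_apply_eq, Equiv.apply_symm_apply, ← Ne,
      ← Perm.mem_support]

theorem Wr_top (h2 : 2 ≤ Fintype.card Δ) (h : Fintype.card ι = 1) : Wr ι Δ = ⊤ := by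
  obtain ⟨i, hi⟩ := Fintype.card_eq_one_iff.1 h
  have : ∀ f f' : ι → Δ, Ad f f' := fun f f' => ⟨i, f' i, funext fun j => by rw [hi j]; simp⟩
  exact eq_top_iff.2 fun σ _ => autH h2 fun _ _ => ⟨fun _ => this _ _, fun _ => this _ _⟩

theorem card_fix_mod {X : Type*} [Finite X] (φ : X → X) (h : ∀ x, φ (φ (φ x)) = x) :
    Nat.card X ≡ Nat.card {x // φ x = x} [MOD 3] := by
  classical
  haveI : Fact (Nat.Prime 3) := ⟨Nat.prime_three⟩
  haveI := Fintype.ofFinite X
  rw [Nat.card_eq_fintype_card, Nat.card_eq_fintype_card]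
  convert card_fixedPoints_modEq (f := (φ : Function.End X)) (p := 3) (n := 1) (funext h)
  exact Iff.rfl

namespace Hyp

variable {G : Subgroup (Perm (ι → Δ))} (H : Hyp G) (hk : 2 ≤ Fintype.card ι)
  (hA : ¬ alternatingGroup (ι → Δ) ≤ G)
include H hA

theorem no3 : ∀ x ∈ G, x.support.card ≤ 3 → x = 1 := fun x hx h3 => by
  by_contra h1
  exact hA (CF.Perm.alternatingGroup_le_of_card_support_le H.prim hx h1 h3)

include hk

theorem core (i : ι) (hI : ∀ Y : Subgroup (Perm ({j // j ≠ i} → Δ)), Wr _ Δ ≤ Y →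
    Y ≤ Wr _ Δ ∨ alternatingGroup _ ≤ Y) :
    Core (G.comap (up i).toMonoidHom) (Wr {j // j ≠ i} Δ) := by
  have m5 := H.m5
  have H' : Hyp (Wr {j // j ≠ i} Δ) := Hyp.of_le m5 le_rfl
  have mem : ∀ x, x ∈ G.comap (up i).toMonoidHom ↔ up i x ∈ G := fun _ => Iff.rfl
  have cT : Fintype.card ({j // j ≠ i} → Δ) = Fintype.card Δ ^ (Fintype.card ι - 1) := by
    rw [Fintype.card_fun, card_ne]
  have th : ∀ a b : Δ, ∃ c, c ≠ a ∧ c ≠ b := fun a b => by
    obtain ⟨c, hc⟩ := exists_not_mem {a, b} (by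
      have := Finset.card_le_two (a := a) (b := b); omega)
    exact ⟨c, by simpa using hc⟩
  refine ⟨m5, ?_, fun s hs => ?_, fun w hw => ?_, fun s t u => ?_, H'.prim, fun t u h => ?_,
    fun t u h => ?_, fun x hx h => ?_, fun A hc h => hA (H.jordan hk (i := i) hc ?_),
    fun e h => ?_, hI, ?_⟩
  · exact cT ▸ le_trans (by omega) (Nat.le_self_pow (by omega) _)
  · rw [mem, up_pc_one]; exact H.ev i s hs
  · refine (H.fx _ (up_mem i 1 hw)).imp id fun h a b hab => ?_
    have := h i a b hab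
    rwa [← up_pc_one, ← map_mul, pc_mul, mul_one, one_mul] at this
  · obtain ⟨τ, t1, t2⟩ := H'.move t u
    rcases H.fx _ (up_mem i s t1) with h | h
    · exact ⟨_, t1, t2, h⟩
    obtain ⟨j, hj⟩ := Fintype.exists_ne_of_one_lt_card (α := ι) (by omega) i
    obtain ⟨a, ha, -⟩ := th (u ⟨j, hj⟩) (u ⟨j, hj⟩)
    obtain ⟨b, hb, hab⟩ := th (u ⟨j, hj⟩) a
    have := h j a b hab.symm
    rw [← up_pc_co i ⟨j, hj⟩, ← map_mul, pc_mul, one_mul] at this
    refine ⟨_, mul_mem (co_mem _ _) t1, ?_, this⟩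
    rw [mul_apply, t2, co_fix, swap_apply_of_ne_of_ne ha.symm hb.symm]
  · obtain ⟨j, hj⟩ := ne_iff.1 h
    obtain ⟨b, b1, b2⟩ := th (t j) (u j)
    refine ⟨co j (swap (u j) b), co_mem _ _, co_fix.2 (swap_apply_of_ne_of_ne hj.symm b1.symm),
      fun e => b2 (by simpa using co_fix.1 e), ?_⟩
    rw [card_supp_co, card_support_swap b2.symm, card_fun' j]
    have : 0 < Fintype.card Δ ^ (Fintype.card {j // j ≠ i} - 1) := by positivity
    nlinarith
  · obtain ⟨j, hj⟩ := ne_iff.1 h
    obtain ⟨b, b1, b2⟩ := th (t j) (u j)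
    obtain ⟨s, s1, s2, s3⟩ := exists_even {t j} (by simp; omega) (e := u j) (f := b)
      (by simpa using hj) (by simpa using b1)
    refine ⟨co j s, co_mem _ _, co_fix.2 (s2 _ (by simp)), fun e => b2 (s3 ▸ co_fix.1 e), ?_, ?_⟩
    · rw [mem, up_pc_co]; exact H.ev _ s s1
    · rw [sign_co, s1, one_pow]
  · exact (up i).injective ((H.no3 hA (up i x) hx (by rwa [card_supp_up])).trans (map_one _).symm)
  · intro p hp q hq
    obtain ⟨x, hx, a1, a2⟩ := h (Equiv.funSplitAt i Δ p) (by simpa using hp)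
      (Equiv.funSplitAt i Δ q) (by simpa using hq)
    refine ⟨up i x, hx, fun z hz => ?_, ?_⟩
    · rw [up_apply, a1 _ (by simpa using hz), Equiv.symm_apply_apply]
    · rw [up_apply, a2, Equiv.symm_apply_apply]
  · rw [cT, e] at h
    have := Nat.prime_three.dvd_of_dvd_pow h
    omega
  · by_cases e : Fintype.card ι = 2
    · exact Or.inl (Wr_top (by omega) (by rw [card_ne, e]))
    · exact Or.inr (cT ▸ Nat.pow_le_pow_right (by omega) (by omega))

theorem cent (i : ι) (hI : ∀ Y : Subgroup (Perm ({j // j ≠ i} → Δ)), Wr _ Δ ≤ Y →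
    Y ≤ Wr _ Δ ∨ alternatingGroup _ ≤ Y) {g : Perm Δ} (hg : IsThreeCycle g) {x : Perm (ι → Δ)}
    (hx : x ∈ G) (hc : Commute x (co i g)) : x ∈ Wr ι Δ := by
  have m5 := H.m5
  rcases (H.core hk hA i hI).main hg with h | ⟨h1, h⟩
  · obtain ⟨x, rfl⟩ := (up i).surjective x
    obtain ⟨s, w, hw, rfl⟩ := h x hx (by
      rw [← up_pc_one] at hc
      exact (up i).injective (by rw [map_mul, map_mul]; exact hc))
    exact up_mem i s hw
  exfalso
  have h2 : 1 < Fintype.card {j // j ≠ i} := by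
    by_contra h2
    exact h1 (Wr_top (by omega) (by rw [card_ne] at h2 ⊢; omega))
  obtain ⟨⟨j, hj⟩, l, hl⟩ := Fintype.exists_pair_of_one_lt_card h2
  have hjl : j ≠ l.1 := fun e => hl (Subtype.ext e)
  obtain ⟨a⟩ := Function.Embedding.nonempty_of_card_le (α := Fin 5) (β := Δ) (by simpa using m5)
  have ex : ∀ b c : Fin 5, b ≠ 0 → c ≠ 0 → b ≠ c → ∃ y ∈ G, y (fun _ => a 0) ≠ (fun _ => a 0) ∧
      ∀ f, y f ≠ f → (∀ j', j' ≠ i → j' ≠ l.1 → f j' = a 0) ∧
        (f l.1 = a 0 ∨ f l.1 = a b ∨ f l.1 = a c) := fun b c hb hc hbc => by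
    let t : Fin 5 → {j // j ≠ i} → Δ := fun d => update (fun _ => a 0) l (a d)
    have ti : Injective t := fun d d' e => a.injective (by simpa [t] using congrFun e l)
    have t0 : t 0 = fun _ => a 0 := update_eq_self l _
    refine ⟨_, h _ (isThreeCycle_swap_mul_swap_same (ti.ne hb.symm) (ti.ne hc.symm) (ti.ne hbc)),
      fun e => ?_, fun f hf => ?_⟩
    · have := congrFun e l.1
      change up i _ _ _ = _ at this
      rw [up_pc_ne i 1 _ _ l.2, ← t0, mul_apply, swap_apply_left,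
        swap_apply_of_ne_of_ne (ti.ne hc) (ti.ne hbc.symm)] at this
      exact hc (a.injective (by simpa [t] using this))
    · have : ∃ d, (d = 0 ∨ d = b ∨ d = c) ∧ (fun l : {j // j ≠ i} => f l) = t d := by
        by_contra h3
        push Not at h3
        apply hf
        ext j'
        change up i _ _ _ = _
        by_cases e : j' = i
        · subst e; rw [up_pc_self]; rfl
        · rw [up_pc_ne i 1 _ _ e, mul_apply,
            swap_apply_of_ne_of_ne (h3 0 (by simp)) (h3 c (by simp)),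
            swap_apply_of_ne_of_ne (h3 0 (by simp)) (h3 b (by simp))]
      obtain ⟨d, hd, e⟩ := this
      refine ⟨fun j' a1 a2 => ?_, ?_⟩
      · have := congrFun e ⟨j', a1⟩
        rwa [show t d ⟨j', a1⟩ = a 0 from update_of_ne (fun e => a2 (congrArg Subtype.val e)) _ _]
          at this
      · have : f l.1 = a d := (congrFun e l).trans (update_self _ _ _)
        rw [this]
        rcases hd with rfl | rfl | rfl <;> simp
  obtain ⟨y, y1, y2, y3⟩ := ex 1 2 (by decide) (by decide) (by decide)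
  obtain ⟨z, z1, z2, z3⟩ := ex 3 4 (by decide) (by decide) (by decide)
  obtain ⟨s, s1, s2⟩ := H.lift (swap i j) 1 l.1 (a.injective.ne (show (3 : Fin 5) ≠ 4 by decide))
  set τ := update (1 : ι → Perm Δ) l.1 (s * (1 : ι → Perm Δ) l.1) with hτ
  have s3 : ∀ d : Fin 5, d ≠ 3 → d ≠ 4 → s⁻¹ (a d) = a d := fun d d3 d4 => by
    rcases s1 with rfl | rfl
    · rfl
    · exact swap_apply_of_ne_of_ne (a.injective.ne d3) (a.injective.ne d4)
  have v1 : ∀ f : ι → Δ, (wr (swap i j) τ)⁻¹ f l.1 = s⁻¹ (f l.1) := fun f => by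
    rw [wr_inv_apply, swap_apply_of_ne_of_ne l.2 hjl.symm, hτ, update_self]; simp
  have v2 : ∀ f : ι → Δ, (wr (swap i j) τ)⁻¹ f j = f i := fun f => by
    rw [wr_inv_apply, swap_apply_right, hτ, update_of_ne l.2.symm]; rfl
  have v0 : (wr (swap i j) τ)⁻¹ (fun _ => a 0) = fun _ => a 0 := funext fun j' => by
    rw [wr_inv_apply, hτ]
    by_cases e : swap i j j' = l.1
    · rw [e, update_self]; simpa using s3 0 (by decide) (by decide)
    · rw [update_of_ne e]; rfl
  have mv : ∀ f, (wr (swap i j) τ * z * (wr (swap i j) τ)⁻¹) f = f ↔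
      z ((wr (swap i j) τ)⁻¹ f) = (wr (swap i j) τ)⁻¹ f := fun f => by
    rw [mul_apply, mul_apply, ← eq_inv_iff_eq]
  obtain ⟨c1, c2⟩ := CF.Perm.commutator_of_inter (x := y)
    (y := wr (swap i j) τ * z * (wr (swap i j) τ)⁻¹) y2 (by rwa [Ne, mv, v0]) fun f f1 f2 => by
      obtain ⟨p1, p2⟩ := y3 f f1
      obtain ⟨q1, q2⟩ := z3 _ fun e => f2 ((mv f).2 e)
      ext j'
      by_cases e1 : j' = i
      · rw [e1, ← v2 f, q1 j hj hjl]
      by_cases e2 : j' = l.1
      · rw [v1] at q2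
        rw [e2]
        rcases p2 with p2 | p2 | p2
        · exact p2
        all_goals
          rw [p2, s3 _ (by decide) (by decide)] at q2
          simp only [a.injective.eq_iff] at q2
          exact absurd q2 (by decide)
      · exact p1 j' e1 e2
  have hz := mul_mem (mul_mem s2 z1) (inv_mem s2)
  exact c1 (H.no3 hA _ (mul_mem (mul_mem (mul_mem y1 hz) (inv_mem y1)) (inv_mem hz)) c2)

theorem le_Wr (i : ι) (hI : ∀ Y : Subgroup (Perm ({j // j ≠ i} → Δ)), Wr _ Δ ≤ Y →
    Y ≤ Wr _ Δ ∨ alternatingGroup _ ≤ Y) : G ≤ Wr ι Δ := by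
  classical
  have m5 := H.m5
  let X : (ι → Δ) → (ι → Δ) → Type _ := fun α β =>
    {R : (ι → Δ) → (ι → Δ) → Prop // (∃ x ∈ G, R = fun a b => Ad (x a) (x b)) ∧ R α β}
  have cnt : ∀ α β, Nat.card (X α β) ≡ (if Ad α β then 1 else 0) [MOD 3] := fun α β => by
    obtain ⟨g, hg, g1⟩ := exists_three (by omega) {α i, β i} (by
      have := Finset.card_le_two (a := α i) (b := β i); omega)
    have g2 : co i g α = α := co_fix.2 (g1 _ (by simp))
    have g3 : co i g β = β := co_fix.2 (g1 _ (by simp))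
    have g4 : co i g ^ 3 = 1 := by rw [← map_pow, ← hg.orderOf, pow_orderOf_eq_one, map_one]
    have g5 := H.ev i g hg.sign
    let φ : X α β → X α β := fun R => ⟨fun a b => R.1 (co i g a) (co i g b), by
      obtain ⟨x, hx, e⟩ := R.2.1
      exact ⟨x * co i g, mul_mem hx g5, by rw [e]; rfl⟩, by simpa only [g2, g3] using R.2.2⟩
    haveI : Finite (X α β) := Subtype.finite
    have := card_fix_mod φ fun R => by
      apply Subtype.ext
      change (fun a b => R.1 ((co i g ^ 3) a) ((co i g ^ 3) b)) = R.1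
      rw [g4]; rfl
    have fx : ∀ R : X α β, φ R = R → R.1 = Ad := fun ⟨_, ⟨x, hx, rfl⟩, _⟩ e => by
      have e1 : ∀ a b, Ad (x (co i g a)) (x (co i g b)) ↔ Ad (x a) (x b) := fun a b =>
        iff_of_eq (congrFun (congrFun (congrArg Subtype.val e) a) b)
      obtain ⟨j, g', hg', e2⟩ := coord_of_card m5 (σ := x * co i g * x⁻¹)
        (autH (by omega) fun f f' => by simpa using e1 (x⁻¹ f) (x⁻¹ f'))
        (by rw [conj_pow, g4]; simp) i (by rw [card_support_conj, card_supp_co, hg.card_support])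
      obtain ⟨y, y1, y2, y3⟩ := H.conj (i := j) (j := i) hg' hg
      have := H.cent hk hA i hI hg (mul_mem y1 hx) (by
        rw [← e2] at y3
        rw [Commute, SemiconjBy]
        conv_rhs => rw [← y3]
        group)
      have h2 : x ∈ Wr ι Δ := by simpa using mul_mem (inv_mem y2) this
      ext a b
      exact ad_iff h2
    refine this.trans ?_
    by_cases h : Ad α β
    · have : Nat.card {R // φ R = R} = 1 := by
        refine Nat.card_eq_one_iff_exists.2 ⟨⟨⟨Ad, ⟨1, one_mem _, rfl⟩, h⟩, Subtype.ext ?_⟩,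
          fun R => Subtype.ext (Subtype.ext (fx _ R.2))⟩
        funext a b
        exact propext (ad_iff (co_mem i g))
      rw [if_pos h]
      exact congrArg (· % 3) this
    · haveI : IsEmpty {R // φ R = R} := ⟨fun R => h (by
        have := R.1.2.2
        rwa [fx _ R.2] at this)⟩
      rw [if_neg h]
      exact congrArg (· % 3) Nat.card_of_isEmpty
  intro x hx
  refine autH (by omega) fun α β => ?_
  have e : X (x α) (x β) ≃ X α β :=
    { toFun := fun R => ⟨fun a b => R.1 (x a) (x b), by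
        obtain ⟨y, hy, e⟩ := R.2.1
        exact ⟨y * x, mul_mem hy hx, by rw [e]; rfl⟩, R.2.2⟩
      invFun := fun R => ⟨fun a b => R.1 (x⁻¹ a) (x⁻¹ b), by
        obtain ⟨y, hy, e⟩ := R.2.1
        exact ⟨y * x⁻¹, mul_mem hy (inv_mem hx), by rw [e]; rfl⟩, by simpa using R.2.2⟩
      left_inv := fun R => Subtype.ext (by simp)
      right_inv := fun R => Subtype.ext (by simp) }
  have := (cnt _ _).symm.trans (Nat.card_congr e ▸ cnt α β)
  by_cases h1 : Ad (x α) (x β) <;> by_cases h2 : Ad α β <;> simp [h1, h2] at this ⊢ <;>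
    exact absurd this (by decide)

end Hyp

theorem overgroup (n : ℕ) : ∀ (ι : Type) [Fintype ι] [DecidableEq ι], Fintype.card ι = n + 1 →
    ∀ G : Subgroup (Perm (ι → Δ)), Hyp G → G ≤ Wr ι Δ ∨ alternatingGroup (ι → Δ) ≤ G := by
  induction n with
  | zero => exact fun ι _ _ h G H => Or.inl (by
      rw [Wr_top (by have := H.m5; omega) h]; exact le_top)
  | succ n ih =>
    intro ι _ _ h G H
    obtain ⟨i⟩ : Nonempty ι := Fintype.card_pos_iff.1 (by omega)
    exact or_iff_not_imp_right.2 fun hA => H.le_Wr (by omega) hA i fun Y hY =>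
      ih _ (by rw [card_ne, h]; rfl) Y (Hyp.of_le H.m5 hY)

end CF.WrP
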